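import Cfsg.Agent.Lib.PlusTwelve.Defs
import Cfsg.Agent.Lib.PlusTwelve.Proper
import Cfsg.Agent.Lib.MaxSub.OrthAny
import Cfsg.Agent.Lib.OrthNine.Lines

/-!
helper29: blocks of an irreducible maximal subgroup for a form of plus type in dimension twelve.
-/

set_option autoImplicit false
set_option linter.unusedSectionVars false

namespace Cfsg.Agent.Lib.PlusTwelve

open Matrix Module Cfsg.Geo
open Cfsg.Agent.Lib.MaxSub
open Cfsg.Agent.Lib.Geometry (quad_add quad_sub quad_smul quad_polar_self quad_polar_comm)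
open QuadraticMap (polarBilin)
open Cfsg.Agent.Lib.TwoPrimeDim (img mem_img_idem)
open scoped MatrixGroups Matrix

attribute [-simp] QuadraticMap.polarBilin_apply_apply

variable {F : Type*} [Field F] [Fintype F] {Q : QuadraticForm F (Fin 12 → F)}

local notation "MM" => Matrix (Fin 12) (Fin 12) F
local notation "VV" => (Fin 12 → F)
local notation "GG" => Matrix.GeneralLinearGroup (Fin 12) F

theorem toLin_injective (g : GG) : Function.Injective (Matrix.toLin' (g : MM)) := fun _ _ hab =>
  Matrix.mulVec_injective_iff_isUnit.mpr g.isUnit (by simpa using hab)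

/-- A fixed decomposition determines the subgroup. -/
theorem eq_stab_inf (hQ : Plus Q) {H : Subgroup GG} (hH : IsMaximalIn (Cfsg.Geo.omegaGL ⇑Q) H) {t k : ℕ}
    {D : Fin t → Submodule F VV} (hD : IsMDecomposition k D) (hle : H ≤ decompositionStabilizer D) :
    H = decompositionStabilizer D ⊓ Cfsg.Geo.omegaGL ⇑Q := by
  rcases hH.2 (decompositionStabilizer D ⊓ Cfsg.Geo.omegaGL ⇑Q) (le_inf hle hH.1.le) inf_le_right with h | h
  · exact h.symm
  · exact absurd (h ▸ inf_le_left) (not_le_decompositionStabilizer hQ hD)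

/-- Pairwise orthogonal isometric subspaces spanning the space and permuted by a group. -/
theorem decomp_of_family (hQ : Plus Q) {H : Subgroup GG} {s w : ℕ} (hs : 2 ≤ s) (hw : 0 < w)
    (P : Fin s → Submodule F VV) (hrank : ∀ i, finrank F (P i) = w)
    (horth : ∀ i j, i ≠ j → ∀ u ∈ P i, ∀ v ∈ P j, polarBilin Q u v = 0) (htop : ⨆ i, P i = ⊤)
    (hiso : ∀ i j, AreIsometricFor ⇑Q (P i) (P j))
    (hperm : ∀ g ∈ H, ∀ i, ∃ j, (P i).map (Matrix.toLin' (g : MM)) = P j) :
    IsOrthogonalMDecomposition ⇑Q w P ∧ H ≤ decompositionStabilizer P := by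
  have hnd : ∀ i, ∀ a ∈ P i, a ≠ 0 → ∃ x ∈ P i, polarBilin Q a x ≠ 0 := by
    intro i a ha ha0
    by_contra hc
    push Not at hc
    refine ha0 (hQ.nd.1 a fun x => ?_)
    have hle : (⨆ j, P j) ≤ LinearMap.ker (polarBilin Q a) := iSup_le fun j u hu => by
      rw [LinearMap.mem_ker]
      by_cases hij : i = j
      · subst hij; exact hc u hu
      · exact horth i j hij a ha u hu
    exact LinearMap.mem_ker.mp (hle (htop ▸ Submodule.mem_top : x ∈ ⨆ j, P j))
  have hindep : iSupIndep P := fun i => by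
    rw [disjoint_iff, Submodule.eq_bot_iff]
    rintro a ⟨ha, ha'⟩
    by_contra ha0
    obtain ⟨x, hx, hax⟩ := hnd i a ha ha0
    have hle : (⨆ (j) (_ : j ≠ i), P j) ≤ LinearMap.ker ((polarBilin Q).flip x) := iSup₂_le fun j hj u hu => by
      rw [LinearMap.mem_ker, LinearMap.flip_apply]
      exact horth j i hj u hu x hx
    exact hax (by simpa [LinearMap.mem_ker] using hle ha')
  have hne : ∀ i j, P i = P j → i = j := fun i j h => by
    by_contra hij
    have hbot := (hindep.pairwiseDisjoint hij).eq_bot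
    rw [h, inf_idem] at hbot
    have := hrank j
    rw [hbot, finrank_bot] at this
    omega
  refine ⟨⟨⟨⟨hs, hw, hrank, hindep, htop⟩, fun i a ha ha0 => ?_,
    fun i j hij u hu v hv => horth i j hij u hu v hv⟩, hiso⟩, fun g hg => ?_⟩
  · obtain ⟨x, hx, hax⟩ := hnd i a ha ha0
    exact ⟨⟨x, hx, by rw [quad_polar_comm] at hax; exact hax⟩, ⟨x, hx, hax⟩⟩
  · choose r hr using hperm g hg
    refine ⟨Equiv.ofBijective r (Finite.injective_iff_bijective.mp fun i j h => hne i j ?_), hr⟩
    exact Submodule.map_injective_of_injective (toLin_injective g) (by rw [hr, hr, h])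

/-- Over three elements orthogonal three-spaces refine to lines. -/
theorem refine_lines (hQ : Plus Q) (h2 : (2 : F) ≠ 0) (hq : Fintype.card F = 3) {H : Subgroup GG}
    (hH : IsMaximalIn (Cfsg.Geo.omegaGL ⇑Q) H) {D : Fin 4 → Submodule F VV}
    (hD : IsOrthogonalMDecomposition ⇑Q 3 D) (hle : H ≤ decompositionStabilizer D) :
    ∃ D' : Fin 12 → Submodule F VV,
      IsOrthogonalMDecomposition ⇑Q 1 D' ∧ H ≤ decompositionStabilizer D' := by
  classical
  let b : Basis (Fin 3) F (D 0) := Module.finBasisOfFinrankEq F _ (hD.decomp.decomp.finrank_eq 0)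
  let B : VV →ₗ[F] VV →ₗ[F] F := polarBilin Q
  let β : Matrix (Fin 3) (Fin 3) F := Matrix.of fun l m => B (b l) (b m)
  have hs : βᵀ = β := by ext l m; exact quad_polar_comm Q _ _
  have hβ : β.det ≠ 0 := by
    intro h0
    obtain ⟨u, hu0, hu⟩ := Matrix.exists_mulVec_eq_zero_iff.mpr h0
    set x : D 0 := b.equivFun.symm u with hx
    have hx0 : (x : VV) ≠ 0 := fun h => hu0 (by
      have : x = 0 := Subtype.ext h
      rwa [hx, LinearEquiv.map_eq_zero_iff] at this)
    obtain ⟨⟨w, hw, hw'⟩, -⟩ := hD.decomp.nondegenerate 0 _ x.2 hx0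
    refine hw' ?_
    rw [← QuadraticMap.polarBilin_apply_apply]
    obtain ⟨c, hc⟩ : ∃ c, b.equivFun.symm c = ⟨w, hw⟩ := b.equivFun.symm.surjective _
    rw [show w = (b.equivFun.symm c : VV) from (congrArg Subtype.val hc).symm, hx, b.equivFun_symm_apply,
      b.equivFun_symm_apply]
    simp only [Submodule.coe_sum, Submodule.coe_smul, map_sum, map_smul, LinearMap.sum_apply, LinearMap.smul_apply,
      smul_eq_mul]
    simp only [Finset.mul_sum]
    rw [Finset.sum_comm]
    refine Finset.sum_eq_zero fun l _ => ?_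
    have h := congrFun hu l
    simp only [β, Matrix.mulVec, dotProduct, Matrix.of_apply, Pi.zero_apply] at h
    calc _ = c l * ∑ m, B (b l) (b m) * u m := by
          rw [Finset.mul_sum]
          exact Finset.sum_congr rfl fun m _ => by simp only [B]; ring
      _ = 0 := by rw [h, mul_zero]
  obtain ⟨R, a, ha, -, hR⟩ := OrthNine.Tensor.exists_scalar_frame h2 β hs hβ
  let w : Fin 3 → D 0 := fun l => ∑ r, R r l • b r
  have hw : ∀ l m, B (w l) (w m) = if l = m then a else 0 := by
    intro l m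
    have h := congrFun (congrFun hR l) m
    simp only [Matrix.mul_apply, Matrix.transpose_apply, Finset.sum_mul, β, Matrix.of_apply, Matrix.smul_apply,
      Matrix.one_apply, smul_eq_mul, mul_ite, mul_one, mul_zero] at h
    rw [← h]
    simp only [w, Submodule.coe_sum, Submodule.coe_smul, map_sum, map_smul, LinearMap.sum_apply,
      LinearMap.smul_apply, smul_eq_mul, Finset.mul_sum]
    exact Finset.sum_congr rfl fun r _ => Finset.sum_congr rfl fun s _ => by ring
  choose E hE using fun i => hD.isometric 0 i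
  have hEB : ∀ i (x y : D 0), B (E i x) (E i y) = B x y := fun i x y => by
    simp only [B, QuadraticMap.polarBilin_apply_apply, QuadraticMap.polar, ← Submodule.coe_add, ← map_add, hE]
  let V : Fin 4 → Fin 3 → VV := fun i l => (E i (w l) : VV)
  have hV : ∀ i l j m, B (V i l) (V j m) = if i = j ∧ l = m then a else 0 := by
    intro i l j m
    by_cases hij : i = j
    · subst hij; simp only [V, hEB, hw, true_and]
    · rw [if_neg fun h => hij h.1]
      simp only [B, QuadraticMap.polarBilin_apply_apply]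
      exact hD.decomp.orthogonal i j hij _ (E i (w l)).2 _ (E j (w m)).2
  let p : Fin 12 ≃ Fin 4 × Fin 3 := (finProdFinEquiv (m := 4) (n := 3)).symm
  let v : Fin 12 → VV := fun k => V (p k).1 (p k).2
  have hvv : ∀ k l, polarBilin Q (v k) (v l) = if k = l then a else 0 := fun k l => by
    show B (V _ _) (V _ _) = _
    rw [hV]
    by_cases hkl : k = l
    · subst hkl; simp
    · rw [if_neg hkl, if_neg fun h => hkl (p.injective (Prod.ext h.1 h.2))]
  have hQv : ∀ k, Q (v k) = a / 2 := fun k => by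
    have h := hvv k k
    rw [if_pos rfl, quad_polar_self] at h
    rw [eq_div_iff h2, ← h, mul_comm]
  have hli : LinearIndependent F v := OrthNine.Lines.indep_of_orth (Q := Q)
    (fun k => by rw [hvv, if_pos rfl]; exact ha) (fun k l hkl => by rw [hvv, if_neg hkl])
  refine ⟨fun k => F ∙ v k, decomp_of_family hQ (by norm_num) one_pos _
    (fun k => finrank_span_singleton (hli.ne_zero k)) (fun k l hkl u hu x hx => ?_) ?_ (fun k l => ?_)
    (fun g hg k => ?_)⟩
  · obtain ⟨c, rfl⟩ := Submodule.mem_span_singleton.mp hu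
    obtain ⟨d, rfl⟩ := Submodule.mem_span_singleton.mp hx
    rw [map_smul, map_smul, LinearMap.smul_apply, hvv, if_neg hkl, smul_zero, smul_zero]
  · rw [← Submodule.span_range_eq_iSup]
    exact hli.span_eq_top_of_card_eq_finrank (by simp)
  · refine ⟨(LinearEquiv.toSpanNonzeroSingleton F _ (v k) (hli.ne_zero k)).symm.trans
      (LinearEquiv.toSpanNonzeroSingleton F _ (v l) (hli.ne_zero l)), fun x => ?_⟩
    obtain ⟨c, rfl⟩ := (LinearEquiv.toSpanNonzeroSingleton F _ (v k) (hli.ne_zero k)).surjective x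
    rw [LinearEquiv.trans_apply, LinearEquiv.symm_apply_apply]
    show Q (c • v l) = Q (c • v k)
    rw [quad_smul, quad_smul, hQv, hQv]
  obtain ⟨σ, hσ⟩ := hle hg
  set i := σ (p k).1 with hi
  have hmem : (g : MM) *ᵥ v k ∈ D i :=
    hσ _ ▸ ⟨_, (E _ _).2, Matrix.toLin'_apply _ _⟩
  have hliV : LinearIndependent F (V i) := OrthNine.Lines.indep_of_orth (Q := Q)
    (fun l => by show B _ _ ≠ 0; rw [hV, if_pos ⟨rfl, rfl⟩]; exact ha)
    (fun l m hlm => by show B _ _ = 0; rw [hV, if_neg fun h => hlm h.2])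
  have hspan : Submodule.span F (Set.range (V i)) = D i :=
    Submodule.eq_of_le_of_finrank_eq (Submodule.span_le.mpr (by rintro _ ⟨l, rfl⟩; exact (E i (w l)).2))
      (by rw [finrank_span_eq_card hliV, Fintype.card_fin, hD.decomp.decomp.finrank_eq])
  rw [← hspan, Submodule.mem_span_range_iff_exists_fun] at hmem
  obtain ⟨c, hc⟩ := hmem
  have hsum : ∑ l, c l * c l = 1 := by
    have h1 : B (∑ l, c l • V i l) (∑ l, c l • V i l) = a := by
      rw [hc]
      show polarBilin Q _ _ = a
      rw [Orth.iso_polar (Orth.omegaGL_le_isometry (hH.1.le hg)), hvv, if_pos rfl]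
    simp only [map_sum, map_smul, LinearMap.sum_apply, LinearMap.smul_apply, hV, true_and, smul_eq_mul, mul_ite,
      mul_zero, Finset.sum_ite_eq', Finset.sum_ite_eq, Finset.mem_univ, if_true, ← mul_assoc, ← Finset.sum_mul] at h1
    exact (mul_eq_right₀ ha).mp h1
  obtain ⟨l, hl, hl'⟩ := OrthNine.Lines.unit_vector hq hsum
  refine ⟨p.symm (i, l), ?_⟩
  rw [Finset.sum_eq_single l (fun m _ hm => by rw [hl' m hm, zero_smul])
    (fun h => absurd (Finset.mem_univ _) h)] at hc
  rw [Submodule.map_span, Set.image_singleton, Matrix.toLin'_apply, ← hc,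
    Submodule.span_singleton_smul_eq (Ne.isUnit hl)]
  simp [v]

/-- Isometric subspaces have the same type. -/
theorem plus_of_isometric {A B : Submodule F VV} (h : AreIsometricFor ⇑Q A B) (hA : QuadType.Plus Q A) :
    QuadType.Plus Q B := by
  obtain ⟨f, hf⟩ := h
  obtain ⟨U, hUA, hts, hd⟩ := hA
  let j : U →ₗ[F] VV := B.subtype ∘ₗ f.toLinearMap ∘ₗ Submodule.inclusion hUA
  have hj : Function.Injective j :=
    (Submodule.injective_subtype B).comp (f.injective.comp (Submodule.inclusion_injective hUA))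
  refine ⟨LinearMap.range j, ?_, ?_, ?_⟩
  · rintro _ ⟨u, rfl⟩
    exact (f _).2
  · rintro _ ⟨u, rfl⟩
    exact (hf (Submodule.inclusion hUA u)).trans (hts u u.2)
  · rw [LinearMap.finrank_range_of_inj hj, hd, f.finrank_eq]

/-- Over two elements orthogonal four-spaces refine to planes. -/
theorem refine_planes (hQ : Plus Q) (hq : Fintype.card F = 2) {H : Subgroup GG}
    (hH : IsMaximalIn (Cfsg.Geo.omegaGL ⇑Q) H) {D : Fin 3 → Submodule F VV}
    (hD : IsOrthogonalMDecomposition ⇑Q 4 D) (hle : H ≤ decompositionStabilizer D) :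
    ∃ D' : Fin 6 → Submodule F VV,
      IsOrthogonalMDecomposition ⇑Q 2 D' ∧ H ≤ decompositionStabilizer D' := by
  classical
  have hall : ∀ a : F, a = 0 ∨ a = 1 := fun a => by
    by_contra h
    push Not at h
    have h3 : ({0, 1, a} : Finset F).card = 3 := by
      rw [Finset.card_insert_of_notMem (by simp [h.1.symm]), Finset.card_pair h.2.symm]
    have := Finset.card_le_univ ({0, 1, a} : Finset F)
    omega
  have h11 : (1 : F) + 1 = 0 := (hall (1 + 1)).resolve_right fun h => one_ne_zero (α := F) (by linear_combination h)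
  have hrank : ∀ i, finrank F (D i) = 4 := hD.decomp.decomp.finrank_eq
  have horth : ∀ i j, i ≠ j → ∀ u ∈ D i, ∀ v ∈ D j, polarBilin Q u v = 0 := fun i j hij u hu v hv => by
    rw [QuadraticMap.polarBilin_apply_apply]
    exact hD.decomp.orthogonal i j hij u hu v hv
  have hnd : ∀ i, QuadType.Nd Q (D i) := fun i a ha ha0 => by
    obtain ⟨-, x, hx, hax⟩ := hD.decomp.nondegenerate i a ha ha0
    exact ⟨x, hx, by rw [QuadraticMap.polarBilin_apply_apply]; exact hax⟩
  have hplus : ∀ i, QuadType.Plus Q (D i) := by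
    intro i
    by_contra hi
    have hp : ∀ j, ¬ QuadType.Plus Q (D j) := fun j h => hi (plus_of_isometric (hD.isometric j i) h)
    have hperp01 : D 1 ≤ QuadType.perp Q (D 0) := fun v hv u hu => horth 0 1 (by decide) u hu v hv
    obtain ⟨hnd01, hd01⟩ := QuadType.nd_sup Q (hnd 0) (hnd 1) hperp01
    rw [hrank, hrank] at hd01
    have h01 : QuadType.Plus Q (D 0 ⊔ D 1) :=
      (QuadAny.sup_iff Q hQ.nd (hnd 0) (hnd 1) hperp01 (by rw [hrank]; decide) (by rw [hrank]; decide)).mpr
        (iff_of_false (hp 0) (hp 1))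
    have hperp2 : D 2 ≤ QuadType.perp Q (D 0 ⊔ D 1) := fun v hv u hu => by
      obtain ⟨a, ha, b, hb, rfl⟩ := Submodule.mem_sup.mp hu
      rw [map_add, LinearMap.add_apply, horth 0 2 (by decide) a ha v hv, horth 1 2 (by decide) b hb v hv, add_zero]
    have htop : D 0 ⊔ D 1 ⊔ D 2 = ⊤ := by
      refine eq_top_iff.mpr ?_
      rw [← hD.decomp.decomp.iSup_eq_top]
      refine iSup_le fun j => ?_
      fin_cases j
      exacts [le_sup_of_le_left le_sup_left, le_sup_of_le_left le_sup_right, le_sup_right]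
    have hiff := QuadAny.sup_iff Q hQ.nd hnd01 (hnd 2) hperp2 (by rw [hd01]; decide) (by rw [hrank]; decide)
    rw [htop] at hiff
    obtain ⟨U, hts, hd⟩ := hQ.exists_ts_six
    exact hp 2 ((hiff.mp ⟨U, le_top, hts, by rw [hd, finrank_top, Module.finrank_fin_fun]⟩).mp h01)
  choose E hEle hEnd hEd hEm using fun i => QuadAny.exists_minus_plane Q hQ.nd (hnd i) (hrank i).ge
  let E' : Fin 3 → Submodule F VV := fun i => D i ⊓ QuadType.perp Q (E i)
  have hsplit := fun i => QuadType.split_off Q (hnd i) (hEnd i) (hEle i)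
  have hE'd : ∀ i, finrank F (E' i) = 2 := fun i => by
    have h1 := (hsplit i).2.2
    rw [hrank, hEd] at h1
    show finrank F (D i ⊓ QuadType.perp Q (E i) : Submodule F VV) = 2
    omega
  have hE'm : ∀ i, ¬ QuadType.Plus Q (E' i) := fun i h => by
    have h1 := QuadAny.sup_iff Q hQ.nd (hEnd i) (hsplit i).2.1 inf_le_right (by rw [hEd]; decide)
      (by rw [show finrank F (D i ⊓ QuadType.perp Q (E i) : Submodule F VV) = 2 from hE'd i]; decide)
    rw [(hsplit i).1] at h1
    exact hEm i ((h1.mp (hplus i)).mpr h)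
  let P : Fin 3 → Fin 2 → Submodule F VV := fun i => ![E i, E' i]
  have hPd : ∀ i r, finrank F (P i r) = 2 := fun i r => by
    fin_cases r
    exacts [hEd i, hE'd i]
  have hPle : ∀ i r, P i r ≤ D i := fun i r => by
    fin_cases r
    exacts [hEle i, inf_le_left]
  have hone : ∀ i r, ∀ v ∈ P i r, v ≠ 0 → Q v = 1 := fun i r v hv hv0 => by
    refine (hall _).resolve_left fun h0 => ?_
    have hp : QuadType.Plus Q (P i r) := by
      refine ⟨F ∙ v, (Submodule.span_singleton_le_iff_mem _ _).mpr hv, fun u hu => ?_, ?_⟩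
      · obtain ⟨c, rfl⟩ := Submodule.mem_span_singleton.mp hu
        rw [quad_smul, h0, mul_zero]
      · rw [finrank_span_singleton hv0, hPd]
    fin_cases r
    exacts [hEm i hp, hE'm i hp]
  have hEE : ∀ i, ∀ u ∈ E i, ∀ v ∈ E' i, polarBilin Q u v = 0 := fun i u hu v hv => hv.2 u hu
  have hcl : ∀ i, ∀ v ∈ D i, Q v = 1 → v ∈ E i ∨ v ∈ E' i := by
    intro i v hv hQv
    rw [← (hsplit i).1] at hv
    obtain ⟨a, ha, b, hb, rfl⟩ := Submodule.mem_sup.mp hv
    by_cases ha0 : a = 0
    · exact Or.inr (by rw [ha0, zero_add]; exact hb)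
    by_cases hb0 : b = 0
    · exact Or.inl (by simpa [hb0] using ha)
    rw [quad_add, hone i 0 a ha ha0, hone i 1 b hb hb0, hEE i a ha b hb, add_zero, h11] at hQv
    exact absurd hQv zero_ne_one
  let p : Fin 6 ≃ Fin 3 × Fin 2 := (finProdFinEquiv (m := 3) (n := 2)).symm
  refine ⟨fun k => P (p k).1 (p k).2, decomp_of_family hQ (by norm_num) two_pos _ (fun k => hPd _ _)
    (fun k l hkl u hu v hv => ?_) ?_ (fun k l => ?_) (fun g hg k => ?_)⟩
  · obtain ⟨i, r, hk⟩ : ∃ i r, p k = (i, r) := ⟨_, _, rfl⟩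
    obtain ⟨j, s, hl⟩ : ∃ j s, p l = (j, s) := ⟨_, _, rfl⟩
    simp only [hk] at hu
    simp only [hl] at hv
    by_cases hij : i = j
    · subst hij
      have hrs : r ≠ s := fun h => hkl (p.injective (by rw [hk, hl, h]))
      fin_cases r <;> fin_cases s
      · exact absurd rfl hrs
      · exact hEE i u hu v hv
      · rw [quad_polar_comm]; exact hEE i v hv u hu
      · exact absurd rfl hrs
    · exact horth i j hij u (hPle i r hu) v (hPle j s hv)
  · refine eq_top_iff.mpr ?_
    rw [← hD.decomp.decomp.iSup_eq_top]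
    refine iSup_le fun i => ?_
    rw [← (hsplit i).1]
    refine sup_le ?_ ?_
    · exact le_iSup_of_le (p.symm (i, 0)) (by simp [P])
    · exact le_iSup_of_le (p.symm (i, 1)) (by simp [P, E'])
  · refine ⟨LinearEquiv.ofFinrankEq _ _ ((hPd _ _).trans (hPd _ _).symm), fun x => ?_⟩
    by_cases hx : x = 0
    · simp [hx]
    · rw [hone _ _ _ x.2 (by simpa using hx)]
      exact hone _ _ _ (Subtype.coe_prop _) (by simpa using hx)
  obtain ⟨σ, hσ⟩ := hle hg
  obtain ⟨i, r, hk⟩ : ∃ i r, p k = (i, r) := ⟨_, _, rfl⟩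
  simp only [hk]
  set Y := (P i r).map (Matrix.toLin' (g : MM))
  have hYd : finrank F Y = 2 := by
    rw [← (Submodule.equivMapOfInjective _ (toLin_injective g) (P i r)).finrank_eq, hPd]
  have hY : ∀ y ∈ Y, y ∈ E (σ i) ∨ y ∈ E' (σ i) := by
    rintro _ ⟨x, hx, rfl⟩
    by_cases hx0 : x = 0
    · exact Or.inl (by simp [hx0])
    refine hcl _ _ (hσ i ▸ Submodule.mem_map_of_mem (hPle i r hx)) ?_
    rw [Matrix.toLin'_apply, Orth.iso_quad (Orth.omegaGL_le_isometry (hH.1.le hg)), hone i r x hx hx0]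
  by_cases hYE : Y ≤ E (σ i)
  · refine ⟨p.symm (σ i, 0), ?_⟩
    simpa [P] using Submodule.eq_of_le_of_finrank_eq hYE (by rw [hYd, hEd])
  · refine ⟨p.symm (σ i, 1), ?_⟩
    obtain ⟨y, hy, hyE⟩ := SetLike.not_le_iff_exists.mp hYE
    have hyE' := (hY y hy).resolve_left hyE
    have hle' : Y ≤ E' (σ i) := fun z hz => by
      rcases hY z hz with h | h
      · rcases hY (y + z) (add_mem hy hz) with h' | h'
        · exact absurd (by simpa using sub_mem h' h) hyE
        · simpa using sub_mem h' hyE'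
      · exact h
    simpa [P] using Submodule.eq_of_le_of_finrank_eq hle' (by rw [hYd, hE'd])

/-- The cases given by an orthogonal decomposition. -/
theorem orth_cases (hQ : Plus Q) {H : Subgroup GG} (hH : IsMaximalIn (Cfsg.Geo.omegaGL ⇑Q) H)
    (hlines : ∀ D : Fin 12 → Submodule F VV, IsOrthogonalMDecomposition ⇑Q 1 D →
      H ≤ decompositionStabilizer D → Cases Q H)
    (hplanes : ∀ D : Fin 6 → Submodule F VV, IsOrthogonalMDecomposition ⇑Q 2 D →
      H ≤ decompositionStabilizer D → Cases Q H)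
    {t w : ℕ} {D : Fin t → Submodule F VV} (htw : t * w = 12) (hD : IsOrthogonalMDecomposition ⇑Q w D)
    (hle : H ≤ decompositionStabilizer D) : Cases Q H := by
  have h2t := hD.decomp.decomp.two_le
  have htd : t ∈ Nat.divisors 12 := Nat.mem_divisors.mpr ⟨⟨w, htw.symm⟩, by norm_num⟩
  rw [show Nat.divisors 12 = {1, 2, 3, 4, 6, 12} by decide] at htd
  simp only [Finset.mem_insert, Finset.mem_singleton] at htd
  have heq := eq_stab_inf hQ hH hD.decomp.decomp hle
  have hq2 := Fintype.one_lt_card (α := F)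
  rcases htd with rfl | rfl | rfl | rfl | rfl | rfl
  · omega
  · obtain rfl : w = 6 := by omega
    exact Or.inr (Or.inr (Or.inr (Or.inr (Or.inr (Or.inr (Or.inr (Or.inr (Or.inr (Or.inr (Or.inr (Or.inl
      ⟨D, hD, heq⟩)))))))))))
  · obtain rfl : w = 4 := by omega
    by_cases hq : Fintype.card F = 2
    · obtain ⟨D', hD', hle'⟩ := refine_planes hQ hq hH hD hle
      exact hplanes D' hD' hle'
    · exact Or.inr (Or.inr (Or.inr (Or.inr (Or.inr (Or.inr (Or.inr (Or.inr (Or.inr (Or.inr (Or.inl
        ⟨by omega, D, hD, heq⟩))))))))))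
  · obtain rfl : w = 3 := by omega
    have h2 : (2 : F) ≠ 0 := fun h2 => by
      have hnd : QuadType.Nd Q (D 0) := fun a ha ha0 => by
        obtain ⟨-, x, hx, hax⟩ := hD.decomp.nondegenerate 0 a ha ha0
        exact ⟨x, hx, by rw [QuadraticMap.polarBilin_apply_apply]; exact hax⟩
      have h := MaxSub.OrthAny.even_of_two Q h2 3 hnd (hD.decomp.decomp.finrank_eq 0)
      exact absurd h (by decide)
    have hodd : Fintype.card F % 2 = 1 := FiniteField.odd_card_of_char_ne_two fun h => h2 (by
      haveI := ringChar.of_eq h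
      exact CharTwo.two_eq_zero)
    by_cases hq : Fintype.card F = 3
    · obtain ⟨D', hD', hle'⟩ := refine_lines hQ h2 hq hH hD hle
      exact hlines D' hD' hle'
    · exact Or.inr (Or.inr (Or.inr (Or.inr (Or.inr (Or.inr (Or.inr (Or.inr (Or.inr (Or.inl
        ⟨Nat.odd_iff.mpr hodd, by omega, D, hD, heq⟩)))))))))
  · obtain rfl : w = 2 := by omega
    exact hplanes D hD hle
  · obtain rfl : w = 1 := by omega
    exact hlines D hD hle

theorem exists_adjoint (hQ : Plus Q) (M : MM) :
    ∃ M' : MM, ∀ u v, polarBilin Q (M *ᵥ u) v = polarBilin Q u (M' *ᵥ v) := by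
  refine ⟨LinearMap.toMatrix' (LinearMap.BilinForm.leftAdjointOfNondegenerate (polarBilin Q) hQ.nd (Matrix.toLin' M)),
    fun u v => ?_⟩
  rw [← Matrix.toLin'_apply (LinearMap.toMatrix' _) v, Matrix.toLin'_toMatrix', quad_polar_comm Q,
    quad_polar_comm Q u]
  have h := LinearMap.BilinForm.isAdjointPairLeftAdjointOfNondegenerate (polarBilin Q) hQ.nd (Matrix.toLin' M) v u
  rw [Matrix.toLin'_apply] at h
  exact h.symm

theorem adjoint_unique (hQ : Plus Q) {M M' : MM}
    (h : ∀ u v, polarBilin Q u (M *ᵥ v) = polarBilin Q u (M' *ᵥ v)) : M = M' :=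
  TwoPrimeDim.eq_of_mulVec fun v => sub_eq_zero.mp (hQ.nd.2 _ fun u => by rw [map_sub, h, sub_self])

/-- Self-adjoint orthogonal idempotents permuted transitively give an orthogonal decomposition. -/
theorem decomp_of_idem (hQ : Plus Q) {H : Subgroup GG} (hH : H ≤ Cfsg.isometryGroup F ⇑Q) {s w : ℕ}
    (hs : 2 ≤ s) (hw : 0 < w) (f : Fin s → MM) (horth : ∀ i j, i ≠ j → f i * f j = 0) (hsum : ∑ i, f i = 1)
    (hself : ∀ i u v, polarBilin Q (f i *ᵥ u) v = polarBilin Q u (f i *ᵥ v))
    (hperm : ∀ g ∈ H, ∀ i, ∃ j, (g : MM) * f i * ((g⁻¹ : GG) : MM) = f j)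
    (htrans : ∀ i j, ∃ g ∈ H, (g : MM) * f i * ((g⁻¹ : GG) : MM) = f j)
    (hrank : ∀ i, finrank F (img (f i)) = w) :
    IsOrthogonalMDecomposition ⇑Q w (fun i => img (f i)) ∧ H ≤ decompositionStabilizer fun i => img (f i) := by
  refine decomp_of_family hQ hs hw _ hrank (fun i j hij u hu v hv => ?_) ?_ (fun i j => ?_) fun g hg i => ?_
  · obtain ⟨u, rfl⟩ := hu
    obtain ⟨v, rfl⟩ := hv
    rw [Matrix.toLin'_apply, Matrix.toLin'_apply, hself, Matrix.mulVec_mulVec, horth i j hij,
      Matrix.zero_mulVec, map_zero]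
  · refine eq_top_iff.mpr fun v _ => ?_
    rw [show v = ∑ i, f i *ᵥ v by rw [← Matrix.sum_mulVec, hsum, Matrix.one_mulVec]]
    exact sum_mem fun i _ => Submodule.mem_iSup_of_mem i ⟨v, rfl⟩
  · obtain ⟨g, hg, hgj⟩ := htrans i j
    have hm : (img (f i)).map (Matrix.toLin' (g : MM)) = img (f j) := by rw [TwoPrimeDim.map_img_conj, hgj]
    exact ⟨(Submodule.equivMapOfInjective _ (toLin_injective g) _).trans (LinearEquiv.ofEq _ _ hm),
      fun v => Orth.iso_quad (hH hg) (v : VV)⟩
  · obtain ⟨j, hj⟩ := hperm g hg i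
    exact ⟨j, by rw [TwoPrimeDim.map_img_conj, hj]⟩

/-- A block system gives one of the decomposition cases. -/
theorem blocks_cases_of (hQ : Plus Q) {H : Subgroup GG} (hH : IsMaximalIn (Cfsg.Geo.omegaGL ⇑Q) H)
    (hirr : ActsIrreducibly (matrixSet H)) {N : Subgroup GG} (hN : N ≤ H) {t w : ℕ} {e : Fin t → MM}
    (hB : TwoPrimeDim.Blocks H N w e)
    (hlines : ∀ D : Fin 12 → Submodule F VV, IsOrthogonalMDecomposition ⇑Q 1 D →
      H ≤ decompositionStabilizer D → Cases Q H)
    (hplanes : ∀ D : Fin 6 → Submodule F VV, IsOrthogonalMDecomposition ⇑Q 2 D →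
      H ≤ decompositionStabilizer D → Cases Q H) : Cases Q H := by
  classical
  have hG : H ≤ Cfsg.isometryGroup F ⇑Q := hH.1.le.trans Orth.omegaGL_le_isometry
  choose A hA using exists_adjoint hQ
  have hA' : ∀ M u v, polarBilin Q u (M *ᵥ v) = polarBilin Q (A M *ᵥ u) v := fun M u v => by
    rw [quad_polar_comm Q, hA, quad_polar_comm Q]
  have hAA : ∀ M, A (A M) = M := fun M =>
    adjoint_unique hQ fun u v => by rw [← hA, ← hA']
  have hAmul : ∀ M M', A (M * M') = A M' * A M := fun M M' =>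
    adjoint_unique hQ fun u v => by
      rw [← hA, ← Matrix.mulVec_mulVec, ← Matrix.mulVec_mulVec, hA, hA]
  have hA0 : A 0 = 0 := adjoint_unique hQ fun u v => by
    rw [← hA, Matrix.zero_mulVec, Matrix.zero_mulVec, map_zero, map_zero, LinearMap.zero_apply]
  have hAiso : ∀ g : GG, g ∈ H → A (g : MM) = ((g⁻¹ : GG) : MM) := fun g hg =>
    adjoint_unique hQ fun u v => by
      rw [← hA, ← Orth.iso_polar (hG hg) u (((g⁻¹ : GG) : MM) *ᵥ v), Matrix.mulVec_mulVec, Units.mul_inv,
        Matrix.one_mulVec]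
  have hAcentre : ∀ {X : MM}, X ∈ TwoPrimeDim.centre N → A X ∈ TwoPrimeDim.centre N := by
    intro X hX
    rw [TwoPrimeDim.mem_centre] at hX ⊢
    have key : ∀ Y : MM, (∀ g ∈ N, (g : MM) * Y = Y * (g : MM)) → ∀ g ∈ N, (g : MM) * A Y = A Y * (g : MM) := by
      intro Y hY g hg
      have h := congrArg A (hY g⁻¹ (N.inv_mem hg))
      rw [hAmul, hAmul, hAiso _ (hN (N.inv_mem hg)), inv_inv] at h
      exact h.symm
    refine ⟨key X hX.1, fun Y hY => ?_⟩
    have h := congrArg A (hX.2 (A Y) (key Y hY))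
    rw [hAmul, hAmul, hAA] at h
    exact h.symm
  have hex : ∀ i, ∃ j, A (e i) = e j := by
    intro i
    refine hB.exists_eq (hAcentre (hB.mem i)) (by rw [← hAmul, hB.idem]) ?_ fun j => ?_
    · intro h0
      exact hB.ne_zero i (by rw [← hAA (e i), h0, hA0])
    · rcases hB.prim i (A (e j)) (hAcentre (hB.mem j)) (by rw [← hAmul, hB.idem]) with h | h
      · left
        have h2 := congrArg A h
        rw [hAmul, hAA, hA0] at h2
        rwa [TwoPrimeDim.centre_comm (hAcentre (hB.mem i)) (hB.mem j)]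
      · right
        have h2 := congrArg A h
        rw [hAmul, hAA] at h2
        rwa [TwoPrimeDim.centre_comm (hAcentre (hB.mem i)) (hB.mem j)]
  choose π hπ using hex
  have hinj : Function.Injective e := fun i j h => by
    by_contra hij
    exact hB.ne_zero i (by rw [← hB.idem i]; exact (congrArg (e i * ·) h).trans (hB.orth i j hij))
  have hππ : ∀ i, π (π i) = i := fun i => hinj (by rw [← hπ, ← hπ, hAA])
  have hadj : ∀ i u v, polarBilin Q (e i *ᵥ u) v = polarBilin Q u (e (π i) *ᵥ v) := fun i u v => by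
    rw [hA, hπ]
  have hpol : ∀ i j u v, j ≠ π i → polarBilin Q (e i *ᵥ u) (e j *ᵥ v) = 0 := fun i j u v hij => by
    rw [hadj, Matrix.mulVec_mulVec, hB.orth _ _ hij.symm, Matrix.zero_mulVec, map_zero]
  have hconj : ∀ g ∈ H, ∀ i j, (g : MM) * e i * ((g⁻¹ : GG) : MM) = e j →
      (g : MM) * e (π i) * ((g⁻¹ : GG) : MM) = e (π j) := fun g hg i j h => by
    rw [← hπ, ← hπ, ← h, hAmul, hAmul, hAiso g hg, hAiso _ (H.inv_mem hg), inv_inv, mul_assoc]
  have htw : t * w = 12 := by
    have h3 := hB.card_eq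
    rwa [Fintype.card_fin] at h3
  by_cases hfix : ∃ i, π i = i
  · obtain ⟨i₀, hi₀⟩ := hfix
    have hfixall : ∀ j, π j = j := fun j => by
      obtain ⟨g, hg, hgj⟩ := hB.trans i₀ j
      have h := hconj g hg i₀ j hgj
      rw [hi₀, hgj] at h
      exact (hinj h).symm
    obtain ⟨hD, hle⟩ := decomp_of_idem hQ hG hB.decomp.two_le hB.decomp.pos e hB.orth hB.sum_eq
      (fun i u v => by rw [hadj, hfixall]) (fun g hg i => (hB.perm g hg).elim fun σ hσ => ⟨σ i, hσ i⟩)
      hB.trans hB.decomp.finrank_eq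
    exact orth_cases hQ hH hlines hplanes htw hD hle
  push Not at hfix
  by_cases ht : t = 2
  · subst ht
    obtain rfl : w = 6 := by omega
    have hiso : ∀ i u v, polarBilin Q (e i *ᵥ u) (e i *ᵥ v) = 0 := fun i u v => hpol i i u v (hfix i).symm
    have hQ0 : ∀ i v, Q (e i *ᵥ v) = 0 := by
      by_cases h2 : (2 : F) = 0
      · let s : VV → F := fun v => ∑ i, Q (e i *ᵥ v)
        have hs0 : ∀ i v, s (e i *ᵥ v) = Q (e i *ᵥ v) := fun i v => by
          show ∑ j, Q (e j *ᵥ (e i *ᵥ v)) = _
          rw [Finset.sum_eq_single i]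
          · rw [Matrix.mulVec_mulVec, hB.idem]
          · intro j _ hj
            rw [Matrix.mulVec_mulVec, hB.orth _ _ hj, Matrix.zero_mulVec, map_zero]
          · simp
        have hsadd : ∀ u v, s (u + v) = s u + s v := fun u v => by
          simp only [s, Matrix.mulVec_add, quad_add, hiso, add_zero, Finset.sum_add_distrib]
        have hssmul : ∀ (c : F) v, s (c • v) = c * c * s v := fun c v => by
          simp only [s, Matrix.mulVec_smul, QuadraticMap.map_smul, smul_eq_mul, Finset.mul_sum]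
        let K : Submodule F VV :=
          { carrier := {v | s v = 0}
            add_mem' := fun {u v} hu hv => by
              show s (u + v) = 0
              rw [hsadd, show s u = 0 from hu, show s v = 0 from hv, add_zero]
            zero_mem' := by simp [s]
            smul_mem' := fun c v hv => by
              show s (c • v) = 0
              rw [hssmul, show s v = 0 from hv, mul_zero] }
        have hK : K = ⊤ := by
          refine ((TwoPrimeDim.actsIrreducibly_iff H).mp hirr K ?_).resolve_left fun hbot => ?_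
          · intro g hg v hv
            show s ((g : MM) *ᵥ v) = 0
            obtain ⟨σ, hσ⟩ := hB.perm g hg
            rw [← show s v = 0 from hv]
            show ∑ i, Q (e i *ᵥ ((g : MM) *ᵥ v)) = ∑ i, Q (e i *ᵥ v)
            rw [← Equiv.sum_comp σ]
            refine Finset.sum_congr rfl fun i _ => ?_
            rw [← hσ i, Matrix.mulVec_mulVec, mul_assoc, Units.inv_mul, mul_one, ← Matrix.mulVec_mulVec,
              Orth.iso_quad (hG hg)]
          · let u₁ : VV := Pi.single 0 1
            let u₂ : VV := Pi.single 1 1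
            have hmem : ∀ x, s x = 0 → x = 0 := fun x hx => by
              have : x ∈ K := hx
              rwa [hbot, Submodule.mem_bot] at this
            by_cases h1 : s u₁ = 0
            · have := congrFun (hmem u₁ h1) 0
              simp [u₁] at this
            haveI : CharP F 2 := CharTwo.of_one_ne_zero_of_two_eq_zero one_ne_zero h2
            obtain ⟨c, hc⟩ := FiniteField.isSquare_of_char_two (F := F) (ringChar.eq_iff.mpr inferInstance) (s u₂ / s u₁)
            have := congrFun (hmem (u₂ + c • u₁) (by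
              rw [hsadd, hssmul, ← hc, div_mul_cancel₀ _ h1, ← two_mul, h2, zero_mul])) 1
            simp [u₁, u₂] at this
        intro i v
        rw [← hs0]
        exact hK.ge (Submodule.mem_top : e i *ᵥ v ∈ (⊤ : Submodule F VV))
      · intro i v
        have h := hiso i v v
        rw [quad_polar_self] at h
        exact (mul_eq_zero.mp h).resolve_left h2
    exact Or.inr (Or.inr (Or.inr (Or.inr (Or.inr (Or.inr (Or.inr (Or.inr (Or.inr (Or.inr (Or.inr (Or.inr (Or.inl
      ⟨fun i => img (e i), hB.decomp, fun i => by rintro _ ⟨v, rfl⟩; exact hQ0 i v,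
        eq_stab_inf hQ hH hB.decomp hB.le_stab⟩))))))))))))
  let S : Finset (Fin t) := Finset.univ.filter fun i => i < π i
  have hS : ∀ i, i ∈ S ↔ i < π i := fun i => by simp [S]
  have hcases : ∀ i, (i ∈ S ∧ π i ∉ S) ∨ (i ∉ S ∧ π i ∈ S) := by
    intro i
    rw [hS, hS, hππ]
    rcases lt_or_gt_of_ne (hfix i) with h | h
    · exact Or.inr ⟨not_lt.mpr h.le, h⟩
    · exact Or.inl ⟨h, not_lt.mpr h.le⟩
  let pr : Fin t → MM := fun i => e i + e (π i)
  have hprπ : ∀ i, pr (π i) = pr i := fun i => by simp only [pr, hππ]; exact add_comm _ _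
  let idx : Fin S.card → Fin t := fun k => (S.equivFin.symm k : Fin t)
  have hidxS : ∀ k, idx k ∈ S := fun k => (S.equivFin.symm k).2
  have hidx : ∀ i, ∃ k, pr (idx k) = pr i := by
    intro i
    rcases hcases i with ⟨h, -⟩ | ⟨-, h⟩
    · exact ⟨S.equivFin ⟨i, h⟩, by simp [idx]⟩
    · exact ⟨S.equivFin ⟨π i, h⟩, by simp [idx, hprπ]⟩
  have hne : ∀ k l, k ≠ l → idx k ≠ idx l ∧ idx k ≠ π (idx l) := by
    intro k l hkl
    refine ⟨fun h => hkl (S.equivFin.symm.injective (Subtype.ext h)), fun h => ?_⟩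
    rcases hcases (idx l) with ⟨-, h2⟩ | ⟨h2, -⟩
    · exact h2 (h ▸ hidxS k)
    · exact h2 (hidxS l)
  have hidem : ∀ i, pr i * pr i = pr i := fun i => by
    simp only [pr, add_mul, mul_add, hB.idem, hB.orth _ _ (hfix i).symm, hB.orth _ _ (hfix i), add_zero, zero_add]
  have horth : ∀ i j, i ≠ j → i ≠ π j → pr i * pr j = 0 := fun i j h1 h2 => by
    have h3 : π i ≠ j := fun h => h2 (by rw [← h, hππ])
    have h4 : π i ≠ π j := fun h => h1 (by rw [← hππ i, h, hππ])
    simp only [pr, add_mul, mul_add, hB.orth _ _ h1, hB.orth _ _ h2, hB.orth _ _ h3, hB.orth _ _ h4, add_zero]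
  have hsum : ∑ k, pr (idx k) = 1 := by
    rw [show (∑ k, pr (idx k)) = ∑ i ∈ S, pr i from ?_, ← hB.sum_eq]
    · simp only [pr, Finset.sum_add_distrib]
      have himg : ∑ i ∈ S, e (π i) = ∑ i ∈ Sᶜ, e i := by
        refine Finset.sum_nbij' π π (fun i hi => ?_) (fun i hi => ?_) (fun i _ => hππ i) (fun i _ => hππ i)
          (fun i _ => rfl)
        · rcases hcases i with ⟨-, h⟩ | ⟨h, -⟩
          · exact Finset.mem_compl.mpr h
          · exact absurd hi h
        · rcases hcases i with ⟨h, -⟩ | ⟨-, h⟩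
          · exact absurd h (Finset.mem_compl.mp hi)
          · exact h
      rw [himg, Finset.sum_add_sum_compl]
    · rw [← Finset.sum_coe_sort S]
      exact Fintype.sum_equiv S.equivFin.symm _ _ fun k => rfl
  have hrank : ∀ i, Module.finrank F (img (pr i)) = 2 * w := by
    intro i
    have heq : img (pr i) = img (e i) ⊔ img (e (π i)) := by
      refine le_antisymm ?_ (sup_le ?_ ?_)
      · rintro _ ⟨u, rfl⟩
        simp only [pr, Matrix.toLin'_apply, Matrix.add_mulVec]
        exact Submodule.add_mem_sup ⟨u, rfl⟩ ⟨u, rfl⟩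
      · rintro x hx
        rw [mem_img_idem (hidem i), Matrix.add_mulVec, (mem_img_idem (hB.idem i)).mp hx,
          ← (mem_img_idem (hB.idem i)).mp hx, Matrix.mulVec_mulVec _ (e (π i)), hB.orth _ _ (hfix i),
          Matrix.zero_mulVec, add_zero]
      · rintro x hx
        rw [mem_img_idem (hidem i), Matrix.add_mulVec, (mem_img_idem (hB.idem _)).mp hx,
          ← (mem_img_idem (hB.idem _)).mp hx, Matrix.mulVec_mulVec _ (e i), hB.orth _ _ (hfix i).symm,
          Matrix.zero_mulVec, zero_add]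
    have h := Submodule.finrank_sup_add_finrank_inf_eq (img (e i)) (img (e (π i)))
    rw [← heq, (hB.decomp.indep.pairwiseDisjoint (hfix i).symm).eq_bot, finrank_bot,
      hB.decomp.finrank_eq, hB.decomp.finrank_eq] at h
    omega
  have hScard : 2 * S.card = t := by
    have h1 : Sᶜ.card = S.card := by
      refine Finset.card_nbij' π π (fun i hi => ?_) (fun i hi => ?_) (fun i _ => hππ i) (fun i _ => hππ i)
      · rcases hcases i with ⟨h, -⟩ | ⟨-, h⟩
        · exact absurd h (Finset.mem_compl.mp hi)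
        · exact h
      · rcases hcases i with ⟨-, h⟩ | ⟨h, -⟩
        · exact Finset.mem_compl.mpr h
        · exact absurd hi h
    have h2 := Finset.card_add_card_compl S
    rw [Fintype.card_fin] at h2
    omega
  have h2t := hB.decomp.two_le
  have hwpos := hB.decomp.pos
  obtain ⟨hD, hle⟩ := decomp_of_idem hQ hG (s := S.card) (w := 2 * w) (by omega) (by omega)
    (fun k => pr (idx k)) (fun k l h => horth _ _ (hne k l h).1 (hne k l h).2) hsum
    (fun k u v => by
      simp only [pr, Matrix.add_mulVec, map_add, LinearMap.add_apply, hadj, hππ]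
      exact add_comm _ _)
    (fun g hg k => by
      obtain ⟨σ, hσ⟩ := hB.perm g hg
      obtain ⟨l, hl⟩ := hidx (σ (idx k))
      refine ⟨l, ?_⟩
      rw [hl]
      simp only [pr, mul_add, add_mul, hσ (idx k), hconj g hg (idx k) _ (hσ (idx k))])
    (fun k l => by
      obtain ⟨g, hg, hgl⟩ := hB.trans (idx k) (idx l)
      refine ⟨g, hg, ?_⟩
      simp only [pr, mul_add, add_mul, hgl, hconj g hg _ _ hgl])
    (fun k => hrank _)
  have htw' : S.card * (2 * w) = 12 := by
    calc S.card * (2 * w) = 2 * S.card * w := by ring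
      _ = 12 := by rw [hScard, htw]
  exact orth_cases hQ hH hlines hplanes htw' hD hle

end Cfsg.Agent.Lib.PlusTwelve
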