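import Cfsg.Agent.Lib.PlusTwelve.Defs
import Cfsg.Agent.Lib.OrthAny.Proper
import Cfsg.Agent.Lib.OrthAny.QuadDescent
import Cfsg.Agent.Lib.KnownA.PrimeDim.Core

/-!
The residual step for maximal subgroups of the orthogonal group of plus type in dimension twelve: a core gives a
subfield group of prime index or the residual class.
-/

set_option autoImplicit false

namespace Cfsg.Agent.Lib.PlusTwelve

open Matrix Module Cfsg.Geo
open QuadraticMap (polarBilin)
open scoped MatrixGroups Matrix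

variable {F : Type*} [Field F] [Fintype F] {Q : QuadraticForm F (Fin 12 → F)}

/-- A core gives a subfield group or the residual class. -/
theorem forms (hQ : Plus Q) {H P : Subgroup (Matrix.GeneralLinearGroup (Fin 12) F)}
    (hH : IsMaximalIn (omegaGL ⇑Q) H) (hC : KnownA.PrimeDim.Core H P) : Cases Q H := by
  classical
  have hiso : P ≤ Cfsg.isometryGroup F ⇑Q := fun x hx => MaxSub.Orth.omegaGL_le_isometry (hH.1.le (hC.le hx))
  have hfix : FixesQuadForm (matrixSet P) ⇑Q := by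
    rintro _ ⟨x, hx, rfl⟩ v
    exact MaxSub.Orth.iso_quad (hiso hx) v
  have h7 : 7 ≤ Fintype.card (Fin 12) := by simp
  by_cases hreal : ∃ F₀ : Subfield F, F₀ ≠ ⊤ ∧ RealisableOver F₀ (matrixSet P)
  · obtain ⟨F₀, h0, hR⟩ := hreal
    obtain ⟨F₁, r, h1, hr, hcard, hR1⟩ := PrimeDim.FormDescent.exists_prime_index_realisable h0 hR
    rw [Nat.card_eq_fintype_card] at hcard
    obtain ⟨B', ζ, hζ, hB', hBn⟩ := OrthAny.exists_quad_structure hQ.nd (by simp) hC.absIrred hfix hR1
    exact Or.inr (Or.inr (Or.inr (Or.inr (Or.inr (Or.inr (Or.inr (Or.inr (Or.inr (Or.inr (Or.inr (Or.inr (Or.inr (Or.inr (Or.inr (Or.inr (Or.inr (Or.inl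
        ⟨F₁, r, B', ζ, hr, hcard, hζ, hB', PrimeDim.OrthProper.eq_inf_of_le hH
          (fun g hg => hBn g fun x hx => hC.normal g hg x hx)
          (OrthAny.not_le_subfieldSubgroup hQ.nd h7 h1 B')⟩)))))))))))))))))
  push Not at hreal
  refine Or.inr (Or.inr (Or.inr (Or.inr (Or.inr (Or.inr (Or.inr (Or.inr (Or.inr (Or.inr (Or.inr (Or.inr (Or.inr (Or.inr (Or.inr (Or.inr (Or.inr (Or.inr (⟨P, hC.residual fun F₀ h0 => hreal F₀ h0, ?_⟩))))))))))))))))))
  rintro ⟨σ, f, hf, hff⟩
  obtain ⟨F₀, h0, -, hR⟩ := PrimeDim.FormDescent.realisable_of_unitary_quad hf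
    (OrthAny.quad_nondegenerateForm hQ.nd) hC.absIrred hff hfix
  exact hreal F₀ h0 hR

end Cfsg.Agent.Lib.PlusTwelve
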