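import Mathlib

/-!
helper8: a proper isometry of a symmetric four dimensional form of plus type is a tensor product of two
matrices of size two.
-/

set_option autoImplicit false

namespace Cfsg.Agent.Lib.PlusTwelve.FourFactor

open Matrix
open scoped Kronecker

variable {F : Type*} [Field F]

/-- The alternating matrix of size two. -/
def S2 : Matrix (Fin 2) (Fin 2) F := !![0, 1; -1, 0]

local notation "J" x:max y:max => (x ⬝ᵥ ((S2 : Matrix (Fin 2) (Fin 2) F) ⊗ₖ S2) *ᵥ y)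

theorem J_apply (x y : Fin 2 × Fin 2 → F) :
    J x y = x (0, 0) * y (1, 1) - x (0, 1) * y (1, 0) - x (1, 0) * y (0, 1) + x (1, 1) * y (0, 0) := by
  simp [dotProduct, Matrix.mulVec, Fintype.sum_prod_type, Fin.sum_univ_two, S2]
  ring

/-- A pure tensor. -/
def pr (u v : Fin 2 → F) : Fin 2 × Fin 2 → F := fun p => u p.1 * v p.2

/-- The determinant of two vectors. -/
def d2 (u v : Fin 2 → F) : F := u 0 * v 1 - u 1 * v 0

theorem J_pr (u v u' v' : Fin 2 → F) : J (pr u v) (pr u' v') = d2 u u' * d2 v v' := by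
  rw [J_apply]
  simp [pr, d2]
  ring

theorem exists_smul {u v : Fin 2 → F} (hu : u ≠ 0) (h : d2 u v = 0) : ∃ c : F, v = c • u := by
  unfold d2 at h
  by_cases h0 : u 0 = 0
  · have h1 : u 1 ≠ 0 := fun h1 => hu (funext (Fin.forall_fin_two.2 ⟨h0, h1⟩))
    refine ⟨v 1 / u 1, funext (Fin.forall_fin_two.2 ⟨?_, ?_⟩)⟩
    · rw [h0, zero_mul, zero_sub, neg_eq_zero, mul_eq_zero] at h
      simp [h0, h.resolve_left h1]
    · simp [div_mul_cancel₀, h1]
  · refine ⟨v 0 / u 0, funext (Fin.forall_fin_two.2 ⟨?_, ?_⟩)⟩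
    · simp [div_mul_cancel₀, h0]
    · simp only [Pi.smul_apply, smul_eq_mul]
      rw [div_mul_eq_mul_div, eq_div_iff h0]
      linear_combination h

theorem exists_pr (h2 : (2 : F) ≠ 0) {x : Fin 2 × Fin 2 → F} (h : J x x = 0) : ∃ u v, x = pr u v := by
  rw [J_apply] at h
  have h' : x (0, 0) * x (1, 1) = x (0, 1) * x (1, 0) :=
    mul_left_cancel₀ h2 (by linear_combination h)
  have key : ∀ u v : Fin 2 → F, x (0, 0) = u 0 * v 0 → x (0, 1) = u 0 * v 1 → x (1, 0) = u 1 * v 0 →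
      x (1, 1) = u 1 * v 1 → ∃ u v, x = pr u v := fun u v a b c d =>
    ⟨u, v, funext fun p => by
      obtain ⟨i, j⟩ := p
      fin_cases i <;> fin_cases j <;> assumption⟩
  by_cases h0 : x (0, 0) = 0
  · rw [h0, zero_mul] at h'
    rcases mul_eq_zero.1 h'.symm with h1 | h1
    · exact key ![0, 1] ![x (1, 0), x (1, 1)] (by simp [h0]) (by simp [h1]) (by simp) (by simp)
    · exact key ![x (0, 1), x (1, 1)] ![0, 1] (by simp [h0]) (by simp) (by simp [h1]) (by simp)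
  · exact key ![x (0, 0), x (1, 0)] ![1, x (0, 1) / x (0, 0)] (by simp)
      (by simp [mul_div_cancel₀, h0]) (by simp)
      (by simp; rw [← mul_div_assoc, eq_div_iff h0]; linear_combination h')

local notation "M4" => Matrix (Fin 2 × Fin 2) (Fin 2 × Fin 2) F

/-- The case in which the first two columns share their left factor. -/
theorem factor_left (h2 : (2 : F) ≠ 0) {M : M4} (hM : ∀ x y, J (M *ᵥ x) (M *ᵥ y) = J x y)
    {u v u' v' : Fin 2 → F} (ha : M.col (0, 0) = pr u v) (hb : M.col (0, 1) = pr u' v') (hs : d2 u u' = 0) :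
    ∃ X Y : GL (Fin 2) F, M = (X : Matrix (Fin 2) (Fin 2) F) ⊗ₖ (Y : Matrix (Fin 2) (Fin 2) F) := by
  have hcol : ∀ p q, J (M.col p) (M.col q) = J (Pi.single p 1) (Pi.single q 1) := fun p q => by
    rw [← Matrix.mulVec_single_one M p, ← Matrix.mulVec_single_one M q]; exact hM _ _
  obtain ⟨uc, vc, hc⟩ := exists_pr h2 (x := M.col (1, 0)) (by rw [hcol, J_apply]; simp)
  obtain ⟨ud, vd, hd⟩ := exists_pr h2 (x := M.col (1, 1)) (by rw [hcol, J_apply]; simp)
  have had : d2 u ud * d2 v vd = 1 := by rw [← J_pr, ← ha, ← hd, hcol, J_apply]; simp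
  have hu : u ≠ 0 := fun h => by simp [h, d2] at had
  obtain ⟨k, rfl⟩ := exists_smul hu hs
  set v1 := k • v' with hv1
  have hb' : M.col (0, 1) = pr u v1 := by
    rw [hb]; funext p; simp [pr, hv1]; ring
  have hbc : d2 u uc * d2 v1 vc = -1 := by rw [← J_pr, ← hb', ← hc, hcol, J_apply]; simp
  have hac : d2 u uc * d2 v vc = 0 := by rw [← J_pr, ← ha, ← hc, hcol, J_apply]; simp
  have huc : d2 u uc ≠ 0 := fun h => by simp [h] at hbc
  have hvv : v ≠ 0 := fun h => by simp [h, d2] at had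
  obtain ⟨l, rfl⟩ := exists_smul hvv ((mul_eq_zero.1 hac).resolve_left huc)
  set u1 := l • uc with hu1
  have hc' : M.col (1, 0) = pr u1 v := by
    rw [hc]; funext p; simp [pr, hu1]; ring
  have hbc' : d2 u u1 * d2 v v1 = 1 := by
    have h : J (M.col (0, 1)) (M.col (1, 0)) = -1 := by rw [hcol, J_apply]; simp
    rw [hb', hc', J_pr] at h
    linear_combination (norm := (simp only [d2]; ring)) -h
  have hbd : d2 u ud * d2 v1 vd = 0 := by rw [← J_pr, ← hb', ← hd, hcol, J_apply]; simp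
  have hcd : d2 u1 ud * d2 v vd = 0 := by rw [← J_pr, ← hc', ← hd, hcol, J_apply]; simp
  have hu1' : u1 ≠ 0 := fun h => by simp [h, d2] at hbc'
  have hv1' : v1 ≠ 0 := fun h => by simp [h, d2] at hbc'
  obtain ⟨m, rfl⟩ := exists_smul hu1' ((mul_eq_zero.1 hcd).resolve_right fun h => by simp [h] at had)
  obtain ⟨n, rfl⟩ := exists_smul hv1' ((mul_eq_zero.1 hbd).resolve_left fun h => by simp [h] at had)
  have hmn : m * n = 1 := by
    linear_combination (norm := (simp only [d2, Pi.smul_apply, smul_eq_mul]; ring)) had - (m * n) * hbc'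
  have hd' : M.col (1, 1) = pr u1 v1 := by
    rw [hd]
    funext p
    simp only [pr, Pi.smul_apply, smul_eq_mul]
    linear_combination (u1 p.1 * v1 p.2) * hmn
  have hX : (!![u 0, u1 0; u 1, u1 1] : Matrix (Fin 2) (Fin 2) F).det ≠ 0 := fun h => by
    rw [Matrix.det_fin_two_of] at h
    have : d2 u u1 = 0 := by unfold d2; linear_combination h
    simp [this] at hbc'
  have hY : (!![v 0, v1 0; v 1, v1 1] : Matrix (Fin 2) (Fin 2) F).det ≠ 0 := fun h => by
    rw [Matrix.det_fin_two_of] at h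
    have : d2 v v1 = 0 := by unfold d2; linear_combination h
    simp [this] at hbc'
  refine ⟨Matrix.GeneralLinearGroup.mkOfDetNeZero _ hX, Matrix.GeneralLinearGroup.mkOfDetNeZero _ hY, ?_⟩
  ext p q
  obtain ⟨i, j⟩ := p
  obtain ⟨a, b⟩ := q
  have e00 := congrFun ha (i, j)
  have e01 := congrFun hb' (i, j)
  have e10 := congrFun hc' (i, j)
  have e11 := congrFun hd' (i, j)
  simp only [Matrix.col_apply, pr] at e00 e01 e10 e11
  fin_cases a <;> fin_cases b <;> fin_cases i <;> fin_cases j <;>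
    simp_all [Matrix.GeneralLinearGroup.mkOfDetNeZero]

/-- A proper isometry of the determinant form is a tensor product. -/
theorem factor (h2 : (2 : F) ≠ 0) {M : M4} (hM : ∀ x y, J (M *ᵥ x) (M *ᵥ y) = J x y) (hdet : M.det = 1) :
    ∃ X Y : GL (Fin 2) F, M = (X : Matrix (Fin 2) (Fin 2) F) ⊗ₖ (Y : Matrix (Fin 2) (Fin 2) F) := by
  classical
  have hcol : ∀ p q, J (M.col p) (M.col q) = J (Pi.single p 1) (Pi.single q 1) := fun p q => by
    rw [← Matrix.mulVec_single_one M p, ← Matrix.mulVec_single_one M q]; exact hM _ _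
  obtain ⟨u, v, ha⟩ := exists_pr h2 (x := M.col (0, 0)) (by rw [hcol, J_apply]; simp)
  obtain ⟨ub, vb, hb⟩ := exists_pr h2 (x := M.col (0, 1)) (by rw [hcol, J_apply]; simp)
  obtain ⟨uc, vc, hc⟩ := exists_pr h2 (x := M.col (1, 0)) (by rw [hcol, J_apply]; simp)
  have hab : d2 u ub * d2 v vb = 0 := by rw [← J_pr, ← ha, ← hb, hcol, J_apply]; simp
  by_cases hs : d2 u ub = 0
  · exact factor_left h2 hM ha hb hs
  exfalso
  have hac : d2 u uc * d2 v vc = 0 := by rw [← J_pr, ← ha, ← hc, hcol, J_apply]; simp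
  have hbc : d2 ub uc * d2 vb vc = -1 := by rw [← J_pr, ← hb, ← hc, hcol, J_apply]; simp
  have hv : v ≠ 0 := by
    intro h
    have had : J (M.col (0, 0)) (M.col (1, 1)) = 1 := by rw [hcol, J_apply]; simp
    rw [ha, h, J_apply] at had
    simp [pr] at had
  obtain ⟨k, rfl⟩ := exists_smul hv ((mul_eq_zero.1 hab).resolve_left hs)
  have hs' : d2 u uc = 0 := (mul_eq_zero.1 hac).resolve_right fun h => by
    have : d2 (k • v) vc = 0 := by
      unfold d2 at h ⊢
      simp only [Pi.smul_apply, smul_eq_mul]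
      linear_combination k * h
    simp [this] at hbc
  let σ : Equiv.Perm (Fin 2 × Fin 2) := Equiv.swap (0, 1) (1, 0)
  have hM' : ∀ x y, J ((M.submatrix id σ) *ᵥ x) ((M.submatrix id σ) *ᵥ y) = J x y := by
    intro x y
    have e : ∀ z, (M.submatrix id σ) *ᵥ z = M *ᵥ (z ∘ σ.symm) := fun z => by
      rw [Matrix.submatrix_mulVec_equiv]; rfl
    rw [e, e, hM, J_apply, J_apply]
    simp [σ, Equiv.swap_apply_of_ne_of_ne]
    ring
  have h00 : σ (0, 0) = (0, 0) := Equiv.swap_apply_of_ne_of_ne (by simp) (by simp)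
  have h01 : σ (0, 1) = (1, 0) := Equiv.swap_apply_left _ _
  obtain ⟨X, Y, hXY⟩ := factor_left h2 hM' (u := u) (v := v) (u' := uc) (v' := vc)
    (by rw [← ha]; funext p; simp [h00]) (by rw [← hc]; funext p; simp [h01]) hs'
  have h1 := congrArg Matrix.det hXY
  rw [Matrix.det_permute', hdet, Matrix.det_kronecker, Equiv.Perm.sign_swap (by simp)] at h1
  simp only [Units.val_neg, Units.val_one, Int.cast_neg, Int.cast_one, mul_one, Fintype.card_fin] at h1
  -- a product of two squares of the form above has square one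
  have h3 : ((X : Matrix (Fin 2) (Fin 2) F).det * (Y : Matrix (Fin 2) (Fin 2) F).det) ^ 2 = -1 := by
    rw [mul_pow, ← h1]
  have h4 : (X : Matrix (Fin 2) (Fin 2) F).det * (Y : Matrix (Fin 2) (Fin 2) F).det = 1 := by
    have h5 := hM' (Pi.single (0, 0) 1) (Pi.single (1, 1) 1)
    rw [hXY, J_apply, J_apply] at h5
    simp [Matrix.mulVec_single_one] at h5
    rw [Matrix.det_fin_two, Matrix.det_fin_two]
    linear_combination h5
  rw [h4, one_pow] at h3
  exact h2 (by linear_combination h3)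

/-- A plus type form of dimension four has a basis in which it is the tensor square of the alternating form. -/
theorem exists_frame (h2 : (2 : F) ≠ 0) {G : Matrix (Fin 4) (Fin 4) F} (hG : Gᵀ = G) (hGu : IsUnit G)
    {U₀ : Submodule F (Fin 4 → F)} (hts : ∀ u ∈ U₀, u ⬝ᵥ G *ᵥ u = 0) (hd : Module.finrank F U₀ = 2) :
    ∃ ψ : ((Fin 2 × Fin 2) → F) ≃ₗ[F] (Fin 4 → F), ∀ x y, ψ x ⬝ᵥ G *ᵥ ψ y = J x y := by
  classical
  have hsym : ∀ x y : Fin 4 → F, x ⬝ᵥ G *ᵥ y = y ⬝ᵥ G *ᵥ x := fun x y => by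
    rw [Matrix.dotProduct_mulVec, dotProduct_comm, ← Matrix.mulVec_transpose, hG]
  let b := Module.finBasisOfFinrankEq F U₀ hd
  set e : Fin 2 → Fin 4 → F := fun i => (b i : Fin 4 → F) with he
  have hee : ∀ i j, e i ⬝ᵥ G *ᵥ e j = 0 := fun i j => by
    have h := hts _ (U₀.add_mem (b i).2 (b j).2)
    rw [Matrix.mulVec_add, dotProduct_add, add_dotProduct, add_dotProduct, hts _ (b i).2, hts _ (b j).2,
      hsym (b j : Fin 4 → F)] at h
    exact (mul_eq_zero.1 (show (2 : F) * (e i ⬝ᵥ G *ᵥ e j) = 0 by linear_combination h)).resolve_left h2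
  let Φ : (Fin 4 → F) →ₗ[F] (Fin 2 → F) :=
    { toFun := fun y i => e i ⬝ᵥ G *ᵥ y
      map_add' := fun x y => by funext i; simp [Matrix.mulVec_add, dotProduct_add]
      map_smul' := fun c x => by funext i; simp [Matrix.mulVec_smul, dotProduct_smul] }
  have hsurj : Function.Surjective Φ := by
    rw [← LinearMap.dualMap_injective_iff, injective_iff_map_eq_zero]
    intro φ hφ
    set c : Fin 2 → F := fun i => φ (Pi.single i 1) with hc
    have hφc : ∀ z, φ z = c 0 * z 0 + c 1 * z 1 := fun z => by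
      conv_lhs => rw [show z = z 0 • Pi.single 0 1 + z 1 • Pi.single 1 1 from
        funext (Fin.forall_fin_two.2 ⟨by simp, by simp⟩)]
      rw [map_add, map_smul, map_smul]
      simp [hc]; ring
    have hz : G *ᵥ (c 0 • e 0 + c 1 • e 1) = 0 := dotProduct_eq_zero _ fun y => by
      have h := LinearMap.congr_fun hφ y
      rw [LinearMap.dualMap_apply, LinearMap.zero_apply, hφc] at h
      rw [dotProduct_comm, hsym, add_dotProduct, smul_dotProduct, smul_dotProduct]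
      exact h
    have h0 : c 0 • b 0 + c 1 • b 1 = 0 :=
      Subtype.ext ((Matrix.mulVec_injective_iff_isUnit.2 hGu) (by simpa using hz))
    have hli := Fintype.linearIndependent_iff.1 b.linearIndependent c (by rw [Fin.sum_univ_two]; exact h0)
    refine LinearMap.ext fun z => ?_
    rw [hφc, hli 0, hli 1]; simp
  obtain ⟨y₀, hy₀⟩ := hsurj ![1, 0]
  obtain ⟨y₁, hy₁⟩ := hsurj ![0, 1]
  have a00 : e 0 ⬝ᵥ G *ᵥ y₀ = 1 := congrFun hy₀ 0
  have a10 : e 1 ⬝ᵥ G *ᵥ y₀ = 0 := congrFun hy₀ 1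
  have a01 : e 0 ⬝ᵥ G *ᵥ y₁ = 0 := congrFun hy₁ 0
  have a11 : e 1 ⬝ᵥ G *ᵥ y₁ = 1 := congrFun hy₁ 1
  set f₀ := y₀ - ((y₀ ⬝ᵥ G *ᵥ y₀) / 2) • e 0 with hf₀
  set t := f₀ ⬝ᵥ G *ᵥ y₁ with ht
  set f₁ := y₁ - t • e 0 - ((y₁ ⬝ᵥ G *ᵥ y₁) / 2) • e 1 with hf₁
  have d1 : e 0 ⬝ᵥ G *ᵥ f₀ = 1 := by
    simp only [hf₀, Matrix.mulVec_sub, Matrix.mulVec_smul, dotProduct_sub, dotProduct_smul, hee, a00, smul_eq_mul]
    ring
  have d2' : e 1 ⬝ᵥ G *ᵥ f₀ = 0 := by
    simp only [hf₀, Matrix.mulVec_sub, Matrix.mulVec_smul, dotProduct_sub, dotProduct_smul, hee, a10, smul_eq_mul]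
    ring
  have d3 : e 0 ⬝ᵥ G *ᵥ f₁ = 0 := by
    simp only [hf₁, Matrix.mulVec_sub, Matrix.mulVec_smul, dotProduct_sub, dotProduct_smul, hee, a01, smul_eq_mul]
    ring
  have d4 : e 1 ⬝ᵥ G *ᵥ f₁ = 1 := by
    simp only [hf₁, Matrix.mulVec_sub, Matrix.mulVec_smul, dotProduct_sub, dotProduct_smul, hee, a11, smul_eq_mul]
    ring
  have d5 : f₀ ⬝ᵥ G *ᵥ f₀ = 0 := by
    simp only [hf₀, Matrix.mulVec_sub, Matrix.mulVec_smul, dotProduct_sub, sub_dotProduct, dotProduct_smul,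
      smul_dotProduct, hee, a00, hsym y₀ (e 0), smul_eq_mul]
    field_simp
    ring
  have d6 : f₀ ⬝ᵥ G *ᵥ f₁ = 0 := by
    rw [hf₁, Matrix.mulVec_sub, Matrix.mulVec_sub, Matrix.mulVec_smul, Matrix.mulVec_smul, dotProduct_sub,
      dotProduct_sub, dotProduct_smul, dotProduct_smul, hsym f₀ (e 0), hsym f₀ (e 1), d1, d2', ← ht]
    simp
  have d7 : f₁ ⬝ᵥ G *ᵥ f₁ = 0 := by
    simp only [hf₁, Matrix.mulVec_sub, Matrix.mulVec_smul, dotProduct_sub, sub_dotProduct, dotProduct_smul,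
      smul_dotProduct, hee, a01, a11, hsym y₁ (e 0), hsym y₁ (e 1), smul_eq_mul]
    field_simp
    ring
  let ψ₀ : ((Fin 2 × Fin 2) → F) →ₗ[F] (Fin 4 → F) :=
    (LinearMap.proj (0, 0)).smulRight (e 0) + (LinearMap.proj (0, 1)).smulRight (e 1)
      + (LinearMap.proj (1, 0)).smulRight (-f₁) + (LinearMap.proj (1, 1)).smulRight f₀
  have hψ : ∀ x y, ψ₀ x ⬝ᵥ G *ᵥ ψ₀ y = J x y := fun x y => by
    rw [J_apply]
    simp only [ψ₀, LinearMap.add_apply, LinearMap.smulRight_apply, LinearMap.proj_apply, Matrix.mulVec_add,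
      Matrix.mulVec_smul, Matrix.mulVec_neg, dotProduct_add, add_dotProduct, dotProduct_smul, smul_dotProduct,
      dotProduct_neg, neg_dotProduct, smul_eq_mul, hee, d1, d2', d3, d4, d5, d6, d7, hsym f₀ (e 0),
      hsym f₀ (e 1), hsym f₁ (e 0), hsym f₁ (e 1), hsym f₁ f₀]
    ring
  have hinj : Function.Injective ψ₀ := (injective_iff_map_eq_zero _).2 fun x hx => by
    have h : ∀ y, J x y = 0 := fun y => by rw [← hψ, hx, zero_dotProduct]
    have q0 := h (Pi.single (1, 1) 1)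
    have q1 := h (Pi.single (1, 0) 1)
    have q2 := h (Pi.single (0, 1) 1)
    have q3 := h (Pi.single (0, 0) 1)
    rw [J_apply] at q0 q1 q2 q3
    simp at q0 q1 q2 q3
    funext p
    obtain ⟨i, j⟩ := p
    fin_cases i <;> fin_cases j <;> assumption
  refine ⟨LinearEquiv.ofBijective ψ₀ ⟨hinj, ?_⟩, hψ⟩
  exact (LinearMap.injective_iff_surjective_of_finrank_eq_finrank (by simp)).1 hinj

/-- Proper isometries of a plus type form of dimension four fix both rulings. -/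
theorem exists_ruling (h2 : (2 : F) ≠ 0) {G : Matrix (Fin 4) (Fin 4) F} (hG : Gᵀ = G) (hGu : IsUnit G)
    {U₀ : Submodule F (Fin 4 → F)} (hts : ∀ u ∈ U₀, u ⬝ᵥ G *ᵥ u = 0) (hd : Module.finrank F U₀ = 2) :
    ∃ ψ : ((Fin 2 × Fin 2) → F) ≃ₗ[F] (Fin 4 → F), (∀ x y, ψ x ⬝ᵥ G *ᵥ ψ y = J x y) ∧
      ∀ C : Matrix (Fin 4) (Fin 4) F, (∀ x y, (C *ᵥ x) ⬝ᵥ G *ᵥ (C *ᵥ y) = x ⬝ᵥ G *ᵥ y) → C.det = 1 →
        ∃ X Y : GL (Fin 2) F, ∀ x, C *ᵥ ψ x =
          ψ (((X : Matrix (Fin 2) (Fin 2) F) ⊗ₖ (Y : Matrix (Fin 2) (Fin 2) F)) *ᵥ x) := by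
  classical
  obtain ⟨ψ, hψ⟩ := exists_frame h2 hG hGu hts hd
  refine ⟨ψ, hψ, fun C hC hdet => ?_⟩
  let M : M4 := LinearMap.toMatrix' (ψ.symm.toLinearMap ∘ₗ Matrix.toLin' C ∘ₗ ψ.toLinearMap)
  have hMx : ∀ x, ψ (M *ᵥ x) = C *ᵥ ψ x := fun x => by
    rw [← Matrix.toLin'_apply M, Matrix.toLin'_toMatrix']
    simp [Matrix.toLin'_apply]
  obtain ⟨X, Y, hXY⟩ := factor h2 (M := M) (fun x y => by rw [← hψ, hMx, hMx, hC, hψ]) (by
    rw [show M.det = LinearMap.det (ψ.symm.toLinearMap ∘ₗ Matrix.toLin' C ∘ₗ ψ.toLinearMap) from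
      LinearMap.det_toMatrix' _]
    have := LinearMap.det_conj (Matrix.toLin' C) ψ.symm
    rw [LinearEquiv.symm_symm] at this
    rw [this, LinearMap.det_toLin', hdet])
  exact ⟨X, Y, fun x => by rw [← hXY, hMx]⟩

end Cfsg.Agent.Lib.PlusTwelve.FourFactor
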