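import Cfsg.Agent.Lib.PlusTwelve.Defs
import Cfsg.Agent.Lib.OrthAny.Proper
import Cfsg.Agent.Lib.OrthAny.Orbit
import Cfsg.Agent.Lib.PrimeDim.OrthCases

/-!
helper25: twelve orthogonal lines of one isometry type in a space of plus type: the decomposition over a prime
field, a subfield structure otherwise.
-/

set_option autoImplicit false
set_option linter.unusedSectionVars false
set_option linter.style.haveILetI false

namespace Cfsg.Agent.Lib.PlusTwelve

open Matrix Module QuadraticMap Cfsg.Agent.Lib Cfsg.Agent.Lib.MaxSub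
open Cfsg.Agent.Lib.Geometry (quad_add quad_sub quad_smul quad_polar_self quad_polar_comm)
open scoped MatrixGroups Matrix

attribute [-simp] QuadraticMap.polarBilin_apply_apply

variable {F : Type*} [Field F] [Fintype F] {Q : QuadraticForm F (Fin 12 → F)}

local notation "VV" => (Fin 12 → F)
local notation "MM" => Matrix (Fin 12) (Fin 12) F

theorem lines_case (hQ : Plus Q) {H : Subgroup (GL (Fin 12) F)}
    (hH : Cfsg.Geo.IsMaximalIn (Cfsg.Geo.omegaGL ⇑Q) H)
    (v : Fin 12 → VV) {a : F} (h2 : (2 : F) ≠ 0) (ha : a ≠ 0) (hQv : ∀ i, Q (v i) = a)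
    (horth : ∀ i j, i ≠ j → polarBilin Q (v i) (v j) = 0)
    (hmon : ∀ g ∈ H, ∀ i, ∃ (j : Fin 12) (c : F), (g : MM) *ᵥ v i = c • v j) : Cases Q H := by
  classical
  have hiso : ∀ g ∈ H, g ∈ Cfsg.isometryGroup F ⇑Q := fun g hg => Orth.omegaGL_le_isometry (hH.1.le hg)
  have h2a : 2 * a ≠ 0 := mul_ne_zero h2 ha
  have hBv : ∀ i j, polarBilin Q (v i) (v j) = if i = j then 2 * a else 0 := fun i j => by
    by_cases hij : i = j
    · subst hij; rw [if_pos rfl, quad_polar_self, hQv]
    · rw [if_neg hij, horth i j hij]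
  have hli : LinearIndependent F v := by
    refine Fintype.linearIndependent_iff.mpr fun c hc k => ?_
    have h := congrArg (polarBilin Q (v k)) hc
    rw [map_sum, map_zero, Finset.sum_eq_single k
      (fun l _ hl => by rw [map_smul, horth k l hl.symm, smul_zero]) (fun h => absurd (Finset.mem_univ _) h),
      map_smul, hBv, if_pos rfl, smul_eq_mul] at h
    exact (mul_eq_zero.mp h).resolve_right h2a
  have hv0 : ∀ i, v i ≠ 0 := fun i => hli.ne_zero i
  have hsgn : ∀ g ∈ H, ∀ i j (c : F), (g : MM) *ᵥ v i = c • v j → c = 1 ∨ c = -1 := by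
    intro g hg i j c hc
    have h1 := Orth.iso_quad (hiso g hg) (v i)
    rw [hc, quad_smul, hQv, hQv] at h1
    exact mul_self_eq_one_iff.mp ((mul_eq_right₀ ha).mp h1)
  have hq2 : Odd (Fintype.card F) := by
    rw [Nat.odd_iff]
    refine FiniteField.odd_card_of_char_ne_two fun h => h2 ?_
    haveI := ringChar.charP F
    have := CharP.cast_eq_zero F (ringChar F)
    rw [h] at this
    exact_mod_cast this
  by_cases hp : (Fintype.card F).Prime
  · refine Or.inr (Or.inr (Or.inr (Or.inr (Or.inr (Or.inr (Or.inl ⟨⟨_, hp, hq2, rfl⟩, ?_⟩))))))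
    let D : Fin 12 → Submodule F VV := fun k => F ∙ v k
    have hD : ∀ k, finrank F (D k) = 1 := fun k => finrank_span_singleton (hv0 k)
    have hsp : ⨆ k, D k = ⊤ := by
      rw [← Submodule.span_range_eq_iSup]
      exact hli.span_eq_top_of_card_eq_finrank (by simp)
    refine ⟨D, ⟨⟨⟨by norm_num, one_pos, hD, hli.iSupIndep_span_singleton, hsp⟩, fun k => ?_, fun k l hkl => ?_⟩,
      fun k l => ?_⟩, PrimeDim.OrthProper.eq_inf_of_le hH (fun g hg => ?_)
      (OrthAny.not_le_decompositionStabilizer hQ.nd (by simp) (D := D) ⟨by norm_num, one_pos, hD, hli.iSupIndep_span_singleton, hsp⟩)⟩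
    · intro w hw hw0
      obtain ⟨d, rfl⟩ := Submodule.mem_span_singleton.mp hw
      have hd0 : d ≠ 0 := fun h => hw0 (by rw [h, zero_smul])
      have hne : polarBilin Q (v k) (d • v k) ≠ 0 := by
        rw [map_smul, smul_eq_mul, hBv, if_pos rfl]
        exact mul_ne_zero hd0 h2a
      refine ⟨⟨v k, Submodule.mem_span_singleton_self _, ?_⟩, v k, Submodule.mem_span_singleton_self _, ?_⟩
      · rwa [← polarBilin_apply_apply]
      · rw [QuadraticMap.polar_comm, ← polarBilin_apply_apply]; exact hne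
    · intro u hu w hw
      obtain ⟨c, rfl⟩ := Submodule.mem_span_singleton.mp hu
      obtain ⟨d, rfl⟩ := Submodule.mem_span_singleton.mp hw
      rw [← polarBilin_apply_apply, map_smul, map_smul, LinearMap.smul_apply, horth _ _ hkl, smul_zero, smul_zero]
    · refine ⟨(LinearEquiv.toSpanNonzeroSingleton F _ (v k) (hv0 k)).symm.trans
        (LinearEquiv.toSpanNonzeroSingleton F _ (v l) (hv0 l)), fun w => ?_⟩
      obtain ⟨c, rfl⟩ := (LinearEquiv.toSpanNonzeroSingleton F _ (v k) (hv0 k)).surjective w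
      rw [LinearEquiv.trans_apply, LinearEquiv.symm_apply_apply]
      show Q (c • v l) = Q (c • v k)
      rw [quad_smul, quad_smul, hQv, hQv]
    · choose σ c hσ using hmon g hg
      have hinj : Function.Injective σ := by
        intro k l hkl
        by_contra hne
        have h4 := Orth.iso_polar (hiso g hg) (v k) (v l)
        rw [hσ, hσ, hkl, horth _ _ hne, map_smul, map_smul, LinearMap.smul_apply, hBv, if_pos rfl, smul_eq_mul,
          smul_eq_mul] at h4
        rcases hsgn g hg k _ _ (hσ k) with hc | hc <;> rcases hsgn g hg l _ _ (hσ l) with hc' | hc' <;>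
          simp [hc, hc', h2, ha] at h4
      refine ⟨Equiv.ofBijective σ (Finite.injective_iff_bijective.mp hinj), fun k => ?_⟩
      have hu : IsUnit (c k) := by
        rcases hsgn g hg k _ _ (hσ k) with hc | hc <;> simp [hc]
      show (F ∙ v k).map _ = F ∙ v (σ k)
      rw [Submodule.map_span, Set.image_singleton, Matrix.toLin'_apply, hσ, Submodule.span_singleton_smul_eq hu]
  · obtain ⟨F₀, r, -, hr, hcard⟩ := PrimeDim.FormDescent.exists_prime_index (F₀ := (⊥ : Subfield F)) (fun h0 => by
      obtain ⟨p, hpc⟩ := CharP.exists F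
      haveI : Fact p.Prime := ⟨CharP.char_is_prime F p⟩
      have h1 : Nat.card (⊥ : Subfield F) = p := Subfield.card_bot F p
      rw [h0, Nat.card_congr (Subfield.topEquiv (K := F)).toEquiv, Nat.card_eq_fintype_card] at h1
      exact hp (h1 ▸ Fact.out))
    have hF₀ne : F₀ ≠ ⊤ := fun he => by
      rw [he, Nat.card_congr (Subfield.topEquiv (K := F)).toEquiv] at hcard
      exact hr.ne_one (Nat.pow_right_injective (Finite.one_lt_card (α := F)) (by simpa using hcard.symm))
    rw [Nat.card_eq_fintype_card (α := F)] at hcard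
    let M₀ : MM := Matrix.of fun r j => v j r
    have hM₀ : ∀ j, M₀ *ᵥ Pi.single j 1 = v j := fun j => by rw [Matrix.mulVec_single_one]; rfl
    have hPdet : M₀.det ≠ 0 := by
      have hc : LinearIndependent F M₀.col := hli
      exact ((Matrix.isUnit_iff_isUnit_det _).1 (Matrix.linearIndependent_cols_iff_isUnit.1 hc)).ne_zero
    let P : GL (Fin 12) F := Matrix.GeneralLinearGroup.mkOfDetNeZero M₀ hPdet
    have hP : (P : MM) = M₀ := rfl
    refine Or.inr (Or.inr (Or.inr (Or.inr (Or.inr (Or.inr (Or.inr (Or.inr (Or.inr (Or.inr (Or.inr (Or.inr (Or.inr (Or.inr (Or.inr (Or.inr (Or.inr (Or.inl ⟨F₀, r, P, a⁻¹, hr, hcard, inv_ne_zero ha, fun x hx => ?_,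
      PrimeDim.OrthProper.eq_inf_of_le hH (fun g hg => ?_)
        (OrthAny.not_le_subfieldSubgroup hQ.nd (by simp) hF₀ne P)⟩)))))))))))))))))
    · show a⁻¹ * Q ((P : MM) *ᵥ x) ∈ F₀
      have hval : (P : MM) *ᵥ x = ∑ j, x j • v j := by
        conv_lhs => rw [pi_eq_sum_univ' x, Matrix.mulVec_sum]
        refine Finset.sum_congr rfl fun j _ => ?_
        rw [Matrix.mulVec_smul, hP, hM₀]
      have h0 : polarBilin Q ((P : MM) *ᵥ x) ((P : MM) *ᵥ x) = 2 * a * ∑ j, x j * x j := by
        simp only [hval, map_sum, map_smul, LinearMap.sum_apply, LinearMap.smul_apply, hBv, smul_eq_mul,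
          mul_ite, mul_zero, Finset.sum_ite_eq, Finset.sum_ite_eq', Finset.mem_univ, if_true, Finset.mul_sum]
        exact Finset.sum_congr rfl fun j _ => by ring
      rw [quad_polar_self, mul_assoc] at h0
      rw [mul_left_cancel₀ h2 h0, inv_mul_cancel_left₀ ha]
      exact F₀.sum_mem fun j _ => F₀.mul_mem (hx j) (hx j)
    · have hent : ∀ i j, ((P⁻¹ * g * P : GL (Fin 12) F) : Matrix (Fin 12) (Fin 12) F) i j ∈ F₀ := by
        intro i j
        obtain ⟨l, ε, hgv⟩ := hmon g hg j
        have hεmem : ε ∈ F₀ := by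
          rcases hsgn g hg _ _ _ hgv with h1 | h1 <;> rw [h1]
          · exact F₀.one_mem
          · exact F₀.neg_mem F₀.one_mem
        have hcol : ((P⁻¹ * g * P : GL (Fin 12) F) : Matrix (Fin 12) (Fin 12) F) *ᵥ Pi.single j 1 = ε • Pi.single l 1 := by
          rw [Units.val_mul, Units.val_mul, ← Matrix.mulVec_mulVec, ← Matrix.mulVec_mulVec, hP,
            hM₀, hgv, ← hM₀, ← hP, Matrix.mulVec_smul, Matrix.mulVec_mulVec, ← Units.val_mul, inv_mul_cancel, Units.val_one,
            Matrix.one_mulVec]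
        have h3 := congrFun hcol i
        rw [Matrix.mulVec_single_one, Pi.smul_apply, Pi.single_apply, smul_eq_mul, mul_ite, mul_one, mul_zero] at h3
        rw [show ((P⁻¹ * g * P : GL (Fin 12) F) : Matrix (Fin 12) (Fin 12) F) i j = if i = l then ε else 0 from h3]
        split_ifs
        · exact hεmem
        · exact F₀.zero_mem
      let A : Matrix (Fin 12) (Fin 12) F₀ := Matrix.of fun i j => ⟨_, hent i j⟩
      have hA : A.map F₀.subtype = ((P⁻¹ * g * P : GL (Fin 12) F) : Matrix (Fin 12) (Fin 12) F) := rfl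
      have hAdet : A.det ≠ 0 := fun h0 => by
        have h1 : (A.map F₀.subtype).det = 0 := by
          rw [← RingHom.mapMatrix_apply, ← RingHom.map_det, h0, map_zero]
        rw [hA] at h1
        exact (Matrix.GeneralLinearGroup.det_ne_zero _) h1
      refine ⟨Matrix.GeneralLinearGroup.map (F₀.subtype : F₀ →+* F)
        (Matrix.GeneralLinearGroup.mkOfDetNeZero A hAdet), Subgroup.mem_sup_left ⟨_, rfl⟩, ?_⟩
      rw [show Matrix.GeneralLinearGroup.map (F₀.subtype : F₀ →+* F)
        (Matrix.GeneralLinearGroup.mkOfDetNeZero A hAdet) = P⁻¹ * g * P from Units.ext hA]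
      simp only [MulEquiv.coe_toMonoidHom, MulAut.conj_apply]
      group

/-- Ten blocks of dimension one. -/
theorem lines_cases (hQ : Plus Q) {H : Subgroup (GL (Fin 12) F)}
    (hH : Cfsg.Geo.IsMaximalIn (Cfsg.Geo.omegaGL ⇑Q) H)
    {D : Fin 12 → Submodule F VV} (hD : Cfsg.Geo.IsOrthogonalMDecomposition (⇑Q) 1 D)
    (hle : H ≤ Cfsg.Geo.decompositionStabilizer D) : Cases Q H := by
  have h1 := hD.decomp.decomp.finrank_eq
  obtain ⟨d, hd0, hdsp⟩ := finrank_eq_one_iff'.mp (h1 0)
  choose E hE using fun i => hD.isometric 0 i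
  have hne : (d : VV) ≠ 0 := fun h => hd0 (Subtype.ext h)
  have hpol : 2 * Q (d : VV) ≠ 0 := by
    intro h0
    obtain ⟨⟨w, hw, hw'⟩, -⟩ := hD.decomp.nondegenerate 0 (d : VV) d.2 hne
    obtain ⟨c, hc⟩ := hdsp ⟨w, hw⟩
    have hc' : w = c • (d : VV) := (congrArg Subtype.val hc).symm
    refine hw' ?_
    rw [QuadraticMap.polar_comm, ← polarBilin_apply_apply, hc', map_smul, quad_polar_self, h0, smul_zero]
  let v : Fin 12 → VV := fun i => (E i d : VV)
  refine lines_case hQ hH v (left_ne_zero_of_mul hpol) (right_ne_zero_of_mul hpol) (fun i => hE i d)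
    (fun i j hij => ?_) (fun g hg i => ?_)
  · rw [polarBilin_apply_apply]
    exact hD.decomp.orthogonal i j hij _ (E i d).2 _ (E j d).2
  · obtain ⟨σ, hσ⟩ := hle hg
    have hmem : (g : MM) *ᵥ v i ∈ D (σ i) := hσ i ▸ ⟨v i, (E i d).2, Matrix.toLin'_apply _ _⟩
    obtain ⟨z, hz⟩ := (E (σ i)).surjective ⟨_, hmem⟩
    obtain ⟨c, hc⟩ := hdsp z
    refine ⟨σ i, c, ?_⟩
    have := congrArg Subtype.val hz
    rw [← hc, map_smul] at this
    exact this.symm

end Cfsg.Agent.Lib.PlusTwelve
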