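import Cfsg.Agent.Lib.PlusTwelve.Defs
import Cfsg.Agent.Lib.MinusTwelve.Main
import Cfsg.Agent.Lib.SLTwoPrime.Core
import Cfsg.Agent.Lib.TwelveDim.Core
import Cfsg.Agent.Lib.TwoPrimeDim.Homogeneous

/-!
helper12: the maximal subgroups of the orthogonal group of plus type in dimension twelve, given the geometric,
tensor and form steps.
-/

set_option autoImplicit false
set_option linter.unusedSectionVars false

namespace Cfsg.Agent.Lib.PlusTwelve

open Matrix Module Cfsg.Geo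
open scoped MatrixGroups Matrix

variable {F : Type*} [Field F] [Fintype F] {Q : QuadraticForm F (Fin 12 → F)}

local notation "II" => (Fin 12)
local notation "MM" => Matrix (Fin 12) (Fin 12) F
local notation "VV" => (Fin 12 → F)
local notation "GG" => Matrix.GeneralLinearGroup (Fin 12) F
local notation "ZZ" => Cfsg.Geo.scalars (Fin 12) F

/-- The steps which the assembly needs. -/
structure Steps (Q : QuadraticForm F (Fin 12 → F)) (H : Subgroup (Matrix.GeneralLinearGroup (Fin 12) F)) : Prop where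
  reducible : ∀ W : Submodule F (Fin 12 → F), W ≠ ⊥ → W ≠ ⊤ →
    (∀ g ∈ H, ∀ w ∈ W, (g : Matrix (Fin 12) (Fin 12) F) *ᵥ w ∈ W) → Cases Q H
  proper : ∀ (r : ℕ) (K : Subalgebra F (Matrix (Fin 12) (Fin 12) F)), 2 ≤ r → IsFieldSubalgebra r K →
    ¬ Cfsg.Geo.omegaGL ⇑Q ≤ subalgebraNormalizer K
  blocks : ActsIrreducibly (matrixSet H) → ∀ (N : Subgroup (Matrix.GeneralLinearGroup (Fin 12) F)), N ≤ H →
    (∀ g ∈ H, ∀ x ∈ N, g * x * g⁻¹ ∈ N) →
    ∀ (t w : ℕ) (e : Fin t → Matrix (Fin 12) (Fin 12) F), TwoPrimeDim.Blocks H N w e → Cases Q H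
  tensor : ActsIrreducibly (matrixSet H) → ∀ (N : Subgroup (Matrix.GeneralLinearGroup (Fin 12) F)), N ≤ H →
    (∀ g ∈ H, ∀ x ∈ N, g * x * g⁻¹ ∈ N) →
    ∀ (d k : ℕ) (A : N → Matrix (Fin d) (Fin d) F) (φ : Fin k → (Fin d → F) →ₗ[F] (Fin 12 → F)),
      (∀ U : Submodule F (Fin d → F), (∀ n, ∀ u ∈ U, A n *ᵥ u ∈ U) → U = ⊥ ∨ U = ⊤) →
      (∀ X : Matrix (Fin d) (Fin d) F, (∀ n, X * A n = A n * X) → ∃ c : F, X = c • 1) →
      (∀ j (n : N) x, ((n : Matrix.GeneralLinearGroup (Fin 12) F) : Matrix (Fin 12) (Fin 12) F) *ᵥ φ j x =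
        φ j (A n *ᵥ x)) →
      Function.Bijective (Cfsg.Agent.Lib.MaxTensor.assemble φ) → d * k = 12 → 1 < d → 1 < k → Cases Q H
  forms : ∀ P : Subgroup (Matrix.GeneralLinearGroup (Fin 12) F), KnownA.PrimeDim.Core H P → Cases Q H

theorem card_twelve : Fintype.card II = 12 := by simp

theorem field_cases {H : Subgroup GG} (hH : IsMaximalIn (Cfsg.Geo.omegaGL ⇑Q) H)
    (hP : ∀ (r : ℕ) (K : Subalgebra F MM), 2 ≤ r → IsFieldSubalgebra r K → ¬ (Cfsg.Geo.omegaGL ⇑Q) ≤ subalgebraNormalizer K)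
    (K : Subalgebra F MM) {r : ℕ} (hK : IsFieldSubalgebra r K) (h1 : 1 < r) (hr : r ∣ 12)
    (hnorm : ∀ h ∈ H, h ∈ subalgebraNormalizer K) : Cases Q H := by
  by_cases h2 : 2 ∣ r
  · obtain ⟨L, hL, hn⟩ := MinusTwelve.exists_sub h2 (by omega) hK
    exact Or.inr (Or.inr (Or.inr (Or.inr (Or.inr (Or.inr (Or.inr (Or.inr (Or.inr (Or.inr (Or.inr (Or.inr (Or.inr (Or.inl
      ⟨L, hL, PrimeDim.OrthProper.eq_inf_of_le hH (fun h hh => hn h (hnorm h hh)) (hP 2 L le_rfl hL)⟩)))))))))))))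
  · obtain rfl : r = 3 := by
      have := Nat.le_of_dvd (by norm_num) hr
      interval_cases r <;> omega
    exact Or.inr (Or.inr (Or.inr (Or.inr (Or.inr (Or.inr (Or.inr (Or.inr (Or.inr (Or.inr (Or.inr (Or.inr (Or.inr (Or.inr (Or.inl
      ⟨K, hK, PrimeDim.OrthProper.eq_inf_of_le hH hnorm (hP 3 K (by norm_num) hK)⟩))))))))))))))

theorem scalar_or_absIrred {H N : Subgroup GG} (hH : IsMaximalIn (Cfsg.Geo.omegaGL ⇑Q) H) (hS : Steps Q H)
    (hirr : ActsIrreducibly (matrixSet H)) (hcases : ¬ Cases Q H) (hN : N ≤ H)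
    (hNG : ∀ g ∈ H, ∀ x ∈ N, g * x * g⁻¹ ∈ N) : N ≤ ZZ ∨ ActsAbsolutelyIrreducibly (matrixSet N) := by
  classical
  rcases TwoPrimeDim.centre_cases hirr hNG with ⟨r, hr, hK⟩ | ⟨t, w, e, hB⟩
  swap
  · exact absurd (hS.blocks hirr N hN hNG t w e hB) hcases
  rw [card_twelve] at hr
  rcases Nat.lt_or_ge 1 r with h1 | h1
  · exact absurd (field_cases hH hS.proper _ hK h1 hr fun h hh => TwoPrimeDim.centre_normalized hNG hh) hcases
  have hr1 : r = 1 := by
    rcases Nat.eq_zero_or_pos r with h | h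
    · rw [h, Nat.zero_dvd] at hr
      omega
    · omega
  have hc : ∀ M ∈ TwoPrimeDim.centre N, ∃ c : F, M = c • (1 : MM) := by
    intro M hM
    obtain ⟨c, hcM⟩ := (finrank_eq_one_iff_of_nonzero'
      (⟨1, (TwoPrimeDim.centre N).one_mem⟩ : Subalgebra.toSubmodule (TwoPrimeDim.centre N))
      (fun h => zero_ne_one (α := MM) (congrArg Subtype.val h).symm)).mp (hK.finrank_eq.trans hr1) ⟨M, hM⟩
    exact ⟨c, (congrArg Subtype.val hcM).symm⟩
  obtain ⟨d, k, A, φ, hdk, hd, hk, hAirr, hAscal, hφ, hbij⟩ := TwoPrimeDim.homogeneous hirr hNG hc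
  rw [card_twelve] at hdk
  rcases eq_or_lt_of_le (Nat.one_le_iff_ne_zero.mpr hd.ne') with hd1 | hd1
  · left
    subst hd1
    intro x hx
    set a := A ⟨x, hx⟩ 0 0
    refine SLTwoPrime.mem_scalars_of_val (c := a) (TwoPrimeDim.eq_of_mulVec fun v => ?_)
    obtain ⟨u, rfl⟩ := hbij.2 v
    have hA1 : ∀ y : Fin 1 → F, A ⟨x, hx⟩ *ᵥ y = a • y := fun y => by
      funext i
      obtain rfl : i = 0 := Subsingleton.elim _ _
      simp [Matrix.mulVec, dotProduct, a]
    simp only [MaxTensor.assemble, LinearMap.coe_mk, AddHom.coe_mk, Matrix.mulVec_sum,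
      Matrix.smul_mulVec, Matrix.one_mulVec]
    exact Finset.sum_congr rfl fun j _ => by rw [hφ j ⟨x, hx⟩, hA1, map_smul]
  rcases eq_or_lt_of_le (Nat.one_le_iff_ne_zero.mpr hk.ne') with hk1 | hk1
  swap
  · exact absurd (hS.tensor hirr N hN hNG d k A φ hAirr hAscal hφ hbij hdk hd1 hk1) hcases
  right
  subst hk1
  have hval : ∀ u, MaxTensor.assemble φ u = φ 0 (u 0) := fun u => by simp [MaxTensor.assemble]
  have h0 : Function.Bijective (φ 0) := by
    refine ⟨fun a b hab => ?_, fun v => ?_⟩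
    · exact congrFun (hbij.1 (a₁ := fun _ => a) (a₂ := fun _ => b) (by rw [hval, hval, hab])) 0
    · obtain ⟨u, rfl⟩ := hbij.2 v
      exact ⟨u 0, (hval u).symm⟩
  let Φ := LinearEquiv.ofBijective (φ 0) h0
  refine ⟨(TwoPrimeDim.actsIrreducibly_iff N).mpr fun U hU => ?_, fun M hM => ?_⟩
  · rcases hAirr (U.comap (φ 0)) fun n u hu => by
        rw [Submodule.mem_comap] at hu ⊢
        rw [← hφ]
        exact hU n n.2 _ hu with h | h
    · left
      rw [← Submodule.map_comap_eq_of_surjective h0.2 U, h, Submodule.map_bot]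
    · right
      rw [← Submodule.map_comap_eq_of_surjective h0.2 U, h, Submodule.map_top, LinearMap.range_eq_top.mpr h0.2]
  · let X := LinearMap.toMatrix' (Φ.symm.toLinearMap ∘ₗ Matrix.toLin' M ∘ₗ Φ.toLinearMap)
    have hX : ∀ y, φ 0 (X *ᵥ y) = M *ᵥ φ 0 y := fun y => by
      rw [← Matrix.toLin'_apply X, Matrix.toLin'_toMatrix']
      simp only [LinearMap.comp_apply, LinearEquiv.coe_coe, Matrix.toLin'_apply]
      exact Φ.apply_symm_apply _
    obtain ⟨c, hcX⟩ := hAscal X fun n => Matrix.ext_of_mulVec_single fun i => h0.1 (by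
      rw [← Matrix.mulVec_mulVec, ← Matrix.mulVec_mulVec, hX, ← hφ, ← hφ, hX, Matrix.mulVec_mulVec,
        Matrix.mulVec_mulVec, hM _ ⟨n, n.2, rfl⟩])
    refine ⟨c, TwoPrimeDim.eq_of_mulVec fun v => ?_⟩
    obtain ⟨y, rfl⟩ := h0.2 v
    rw [← hX, hcX, Matrix.smul_mulVec, Matrix.one_mulVec, map_smul, Matrix.smul_mulVec, Matrix.one_mulVec]

/-- Every maximal subgroup is on the list, given the steps. -/
theorem maximal_cases_of {H : Subgroup GG} (hH : IsMaximalIn (Cfsg.Geo.omegaGL ⇑Q) H) (hS : Steps Q H) : Cases Q H := by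
  classical
  by_contra hcases
  have hirr : ActsIrreducibly (matrixSet H) := by
    refine (TwoPrimeDim.actsIrreducibly_iff H).mpr fun W hW => ?_
    by_contra h
    rw [not_or] at h
    exact hcases (hS.reducible W h.1 h.2 hW)
  have hns : ¬ H ≤ ZZ := by
    intro hle
    let v : VV := Pi.single 0 1
    have hv : v ≠ 0 := by simp [v]
    rcases (TwoPrimeDim.actsIrreducibly_iff H).mp hirr (F ∙ v) fun g hg w hw => by
        obtain ⟨c, hc⟩ := (mem_scalars_iff g).mp (hle hg)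
        rw [hc, Matrix.smul_mulVec, Matrix.one_mulVec]
        exact Submodule.smul_mem _ _ hw with h | h
    · rw [Submodule.span_singleton_eq_bot] at h
      exact hv h
    · have h1 := finrank_span_singleton (K := F) hv
      rw [h, finrank_top, Module.finrank_fintype_fun_eq_card, card_twelve] at h1
      omega
  obtain ⟨P, hle, hnorm, hPsc, hmin⟩ := TwelveDim.exists_minimal hns
  have habs := (scalar_or_absIrred hH hS hirr hcases hle hnorm).resolve_left hPsc
  exact hcases (hS.forms P (TwelveDim.core card_twelve hle hnorm hPsc hmin habs))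

end Cfsg.Agent.Lib.PlusTwelve
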