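import Cfsg.Agent.Lib.PlusTwelve.Lines
import Cfsg.Agent.Lib.OrthAny.Proper
import Cfsg.Agent.Lib.OrthAny.Orbit
import Cfsg.Agent.Lib.PrimeDim.OrthCases
import Cfsg.Agent.Lib.MaxSub.OrthFrameEven

/-!
helper11: twelve orthogonal lines and six orthogonal planes in a space of plus type of dimension twelve.
-/

set_option autoImplicit false
set_option linter.unusedSectionVars false
set_option linter.style.haveILetI false

namespace Cfsg.Agent.Lib.PlusTwelve

open Matrix Module QuadraticMap Cfsg.Agent.Lib Cfsg.Agent.Lib.MaxSub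
open Cfsg.Agent.Lib.Geometry (quad_add quad_sub quad_smul quad_polar_self quad_polar_comm)
open scoped MatrixGroups Matrix

attribute [-simp] QuadraticMap.polarBilin_apply_apply

variable {F : Type*} [Field F] [Fintype F] {Q : QuadraticForm F (Fin 12 → F)}

local notation "VV" => (Fin 12 → F)
local notation "MM" => Matrix (Fin 12) (Fin 12) F

theorem case_subfield {H : Subgroup (GL (Fin 12) F)}
    (h : ∃ (F₀ : Subfield F) (r : ℕ) (P : Matrix.GeneralLinearGroup (Fin 12) F) (ζ : F), r.Prime ∧
      Fintype.card F = Nat.card F₀ ^ r ∧ ζ ≠ 0 ∧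
      Cfsg.Geo.IsQuadFormRationalStructure (fun v : Fin 12 → F => ζ * Q v) F₀ P ∧
      H = Cfsg.Geo.subfieldSubgroup F₀ P ⊓ Cfsg.Geo.omegaGL ⇑Q) : Cases Q H :=
  Or.inr (Or.inr (Or.inr (Or.inr (Or.inr (Or.inr (Or.inr (Or.inr (Or.inr (Or.inr (Or.inr (Or.inr (Or.inr (Or.inr (Or.inr (Or.inr (Or.inr (Or.inl h)))))))))))))))))

/-- A singular vector makes a plane of plus type. -/
theorem plus_of_singular {W : Submodule F VV} (hW : finrank F W = 2) {x : VV} (hx : x ∈ W) (hx0 : x ≠ 0)
    (hQx : Q x = 0) : Cfsg.Geo.IsPlusTypeOn ⇑Q W :=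
  ⟨F ∙ x, (Submodule.span_singleton_le_iff_mem _ _).mpr hx, fun w hw => by
    obtain ⟨c, rfl⟩ := Submodule.mem_span_singleton.mp hw
    rw [quad_smul, hQx, mul_zero], by rw [finrank_span_singleton hx0, hW]⟩

/-- Two orthogonal vectors of one value in each plane, and no other such vector up to scalars. -/
theorem planes_frame_case (hQ : Plus Q) {H : Subgroup (GL (Fin 12) F)}
    (hH : Cfsg.Geo.IsMaximalIn (Cfsg.Geo.omegaGL ⇑Q) H)
    {D : Fin 6 → Submodule F VV} (hD : Cfsg.Geo.IsOrthogonalMDecomposition (⇑Q) 2 D)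
    (hle : H ≤ Cfsg.Geo.decompositionStabilizer D)
    (h2 : (2 : F) ≠ 0) {c : F} (hc : c ≠ 0) (v : Fin 6 → Fin 2 → VV) (hvD : ∀ i b, v i b ∈ D i)
    (hQv : ∀ i b, Q (v i b) = c) (horth : ∀ i, polarBilin Q (v i 0) (v i 1) = 0)
    (hcl : ∀ i, ∀ x ∈ D i, Q x = c → ∃ (b : Fin 2) (s : F), x = s • v i b) : Cases Q H := by
  classical
  let p : Fin 12 ≃ Fin 6 × Fin 2 := (finProdFinEquiv (m := 6) (n := 2)).symm
  refine lines_case hQ hH (fun k => v (p k).1 (p k).2) h2 hc (fun k => hQv _ _) (fun k l hkl => ?_)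
    fun g hg k => ?_
  · have hpp : p k ≠ p l := fun e => hkl (p.injective e)
    show polarBilin Q (v (p k).1 (p k).2) (v (p l).1 (p l).2) = 0
    generalize hk : p k = a at hpp
    generalize hl : p l = b at hpp
    obtain ⟨i, a⟩ := a
    obtain ⟨j, b⟩ := b
    by_cases h : i = j
    · subst h
      have hab : a ≠ b := fun e => hpp (by rw [e])
      fin_cases a <;> fin_cases b <;> first | exact absurd rfl hab | exact horth i |
        (rw [quad_polar_comm]; exact horth i)
    · rw [polarBilin_apply_apply]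
      exact hD.decomp.orthogonal i j h _ (hvD _ _) _ (hvD _ _)
  · obtain ⟨σ, hσ⟩ := hle hg
    have hm : (g : MM) *ᵥ v (p k).1 (p k).2 ∈ D (σ (p k).1) := hσ _ ▸ ⟨_, hvD _ _, Matrix.toLin'_apply _ _⟩
    obtain ⟨b, s, hs⟩ := hcl _ _ hm (by rw [Orth.iso_quad (Orth.omegaGL_le_isometry (hH.1.le hg))]; exact hQv _ _)
    exact ⟨p.symm (σ (p k).1, b), s, by simp [hs]⟩

/-- Anisotropic planes over three elements: two lines of a given value in each. -/
theorem planes_three (hQ : Plus Q) {H : Subgroup (GL (Fin 12) F)}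
    (hH : Cfsg.Geo.IsMaximalIn (Cfsg.Geo.omegaGL ⇑Q) H)
    {D : Fin 6 → Submodule F VV} (hD : Cfsg.Geo.IsOrthogonalMDecomposition (⇑Q) 2 D)
    (hle : H ≤ Cfsg.Geo.decompositionStabilizer D) (h3 : Fintype.card F = 3)
    (han : ∀ i, ∀ x ∈ D i, Q x = 0 → x = 0) : Cases Q H := by
  classical
  have hne : (3 : F) = 0 := by
    have h := FiniteField.cast_card_eq_zero F
    rwa [h3] at h
  have h2 : (2 : F) ≠ 0 := fun h => one_ne_zero (α := F) (by linear_combination hne - h)
  have hsq : ∀ a : F, a ≠ 0 → a * a = 1 := fun a ha => by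
    have := FiniteField.pow_card_sub_one_eq_one a ha
    rwa [h3, show 3 - 1 = 2 from rfl, pow_two] at this
  obtain ⟨x, hx, hx0⟩ := (Submodule.ne_bot_iff (D 0)).mp fun hb => by
    have := hD.decomp.decomp.finrank_eq 0
    rw [hb, finrank_bot] at this
    omega
  have hQx : Q x ≠ 0 := fun h => hx0 (han 0 x hx h)
  obtain ⟨y, hy, hy0, hxy⟩ : ∃ y ∈ D 0, y ≠ 0 ∧ polarBilin Q x y = 0 := by
    let φ : D 0 →ₗ[F] F := (polarBilin Q x).comp (D 0).subtype
    have hk : LinearMap.ker φ ≠ ⊥ := LinearMap.ker_ne_bot_of_finrank_lt (by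
      rw [hD.decomp.decomp.finrank_eq 0, Module.finrank_self]; norm_num)
    obtain ⟨z, hz, hz0⟩ := (Submodule.ne_bot_iff _).mp hk
    exact ⟨z, z.2, fun h => hz0 (Subtype.ext h), LinearMap.mem_ker.mp hz⟩
  have hQy : Q y ≠ 0 := fun h => hy0 (han 0 y hy h)
  have hyx : Q y = Q x := by
    by_contra hne'
    have hsum : Q x + Q y = 0 := mul_left_cancel₀ (sub_ne_zero.mpr (Ne.symm hne'))
      (by linear_combination hsq _ hQx - hsq _ hQy)
    have h1 : x + y = 0 := han 0 _ ((D 0).add_mem hx hy) (by rw [quad_add, hxy, add_zero, hsum])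
    have h2' := congrArg (polarBilin Q x) h1
    rw [map_add, hxy, add_zero, map_zero, quad_polar_self] at h2'
    exact mul_ne_zero h2 hQx h2'
  choose E hE using fun j => hD.isometric 0 j
  have hEpol : ∀ j (a b : D 0), polarBilin Q (E j a : VV) (E j b : VV) = polarBilin Q (a : VV) (b : VV) := by
    intro j a b
    simp only [polarBilin_apply_apply, QuadraticMap.polar, ← Submodule.coe_add, ← map_add, hE]
  refine planes_frame_case hQ hH hD hle h2 hQx (fun j b => (E j (![⟨x, hx⟩, ⟨y, hy⟩] b) : VV))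
    (fun j b => (E j _).2) (fun j b => ?_) (fun j => ?_) fun i z hz hQz => ?_
  · rw [hE]; fin_cases b <;> first | rfl | exact hyx
  · rw [hEpol]; exact hxy
  · let b : Fin 2 → D 0 := ![⟨x, hx⟩, ⟨y, hy⟩]
    have hbli : LinearIndependent F b := by
      rw [Fintype.linearIndependent_iff]
      intro g hg k
      have h1 := congrArg (fun w : D 0 => polarBilin Q x (w : VV)) hg
      have h1' := congrArg (fun w : D 0 => polarBilin Q y (w : VV)) hg
      simp only [b, Fin.sum_univ_two, Matrix.cons_val_zero, Matrix.cons_val_one, Submodule.coe_add, Submodule.coe_smul,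
        map_add, map_smul, ZeroMemClass.coe_zero, map_zero, hxy, quad_polar_self, quad_polar_comm Q y x,
        smul_eq_mul, mul_zero, add_zero, zero_add, hyx] at h1 h1'
      have hz := mul_ne_zero h2 hQx
      fin_cases k
      · exact (mul_eq_zero.mp h1).resolve_right hz
      · exact (mul_eq_zero.mp h1').resolve_right hz
    obtain ⟨w, hw⟩ := (E i).surjective ⟨z, hz⟩
    have hspan : Submodule.span F (Set.range b) = ⊤ :=
      hbli.span_eq_top_of_card_eq_finrank (by rw [Fintype.card_fin, hD.decomp.decomp.finrank_eq 0])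
    obtain ⟨g, hg⟩ := Submodule.mem_span_range_iff_exists_fun F |>.mp (hspan.ge (Submodule.mem_top : w ∈ ⊤))
    simp only [b, Fin.sum_univ_two, Matrix.cons_val_zero, Matrix.cons_val_one] at hg
    have hzw : z = (E i w : VV) := (congrArg Subtype.val hw).symm
    have hq : g 0 * g 0 + g 1 * g 1 = 1 := by
      have h := hE i w
      rw [← hzw, hQz, ← hg, Submodule.coe_add, Submodule.coe_smul, Submodule.coe_smul, quad_add, quad_smul,
        quad_smul, map_smul, map_smul, LinearMap.smul_apply, hxy, smul_zero, smul_zero, add_zero, hyx] at h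
      exact mul_right_cancel₀ hQx (by linear_combination -h)
    by_cases h0 : g 0 = 0
    · refine ⟨1, g 1, ?_⟩
      show z = g 1 • (E i _ : VV)
      rw [hzw, ← hg, h0, zero_smul, zero_add, map_smul, Submodule.coe_smul]
      rfl
    · have h1 : g 1 = 0 := by
        by_contra h1
        rw [hsq _ h0, hsq _ h1] at hq
        exact one_ne_zero (α := F) (by linear_combination hq)
      refine ⟨0, g 0, ?_⟩
      show z = g 0 • (E i _ : VV)
      rw [hzw, ← hg, h1, zero_smul, add_zero, map_smul, Submodule.coe_smul]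
      rfl

/-- Six isometric orthogonal planes. -/
theorem planes_cases (hQ : Plus Q) {H : Subgroup (GL (Fin 12) F)}
    (hH : Cfsg.Geo.IsMaximalIn (Cfsg.Geo.omegaGL ⇑Q) H) (hirr : Cfsg.Geo.ActsIrreducibly (Cfsg.Geo.matrixSet H))
    {D : Fin 6 → Submodule F VV} (hD : Cfsg.Geo.IsOrthogonalMDecomposition (⇑Q) 2 D)
    (hle : H ≤ Cfsg.Geo.decompositionStabilizer D) : Cases Q H := by
  classical
  have hfr := hD.decomp.decomp.finrank_eq
  have heq := PrimeDim.OrthProper.eq_inf_of_le hH hle
    (OrthAny.not_le_decompositionStabilizer hQ.nd (by simp) hD.decomp.decomp)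
  have htr : ∀ i, Cfsg.Geo.IsPlusTypeOn ⇑Q (D i) → ∀ j, Cfsg.Geo.IsPlusTypeOn ⇑Q (D j) := by
    intro i hp j
    obtain ⟨e, he, f, hf, hQe, -, hef, -⟩ := OrthFrame.exists_hyperbolic hQ.nd hD rfl hp
    obtain ⟨E, hE⟩ := hD.isometric i j
    refine plus_of_singular (hfr j) (E ⟨e, he⟩).2 (fun h => ?_) (by rw [hE]; exact hQe)
    have h1 : E ⟨e, he⟩ = 0 := Subtype.ext h
    rw [LinearEquiv.map_eq_zero_iff] at h1
    rw [show e = 0 from congrArg Subtype.val h1, map_zero, LinearMap.zero_apply] at hef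
    exact zero_ne_one hef
  by_cases hplus : Cfsg.Geo.IsPlusTypeOn ⇑Q (D 0)
  swap
  · have hnp : ∀ i, ¬ Cfsg.Geo.IsPlusTypeOn ⇑Q (D i) := fun i h => hplus (htr i h 0)
    by_cases h3 : Fintype.card F = 3
    · exact planes_three hQ hH hD hle h3 fun i x hx hQx => by
        by_contra hx0
        exact hnp i (plus_of_singular (hfr i) hx hx0 hQx)
    · exact Or.inr (Or.inr (Or.inr (Or.inr (Or.inr (Or.inr (Or.inr (Or.inr (Or.inl ⟨h3, D, hD, hnp, heq⟩))))))))
  have hall := htr 0 hplus
  by_cases h7 : 7 ≤ Fintype.card F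
  · exact Or.inr (Or.inr (Or.inr (Or.inr (Or.inr (Or.inr (Or.inr (Or.inl ⟨h7, D, hD, hall, heq⟩)))))))
  choose e he f hf hQe hQf hef hspan using fun i => OrthFrame.exists_hyperbolic hQ.nd hD rfl (hall i)
  have hval : ∀ i, ∀ x ∈ D i, Q x = 1 → ∃ a b : F, a * b = 1 ∧ x = a • e i + b • f i := by
    intro i x hx hQx
    obtain ⟨a, b, rfl⟩ : ∃ a b : F, x = a • e i + b • f i := ⟨_, _, hspan i x hx⟩
    exact ⟨a, b, by rwa [OrthFrame.quad_hyperbolic (hQe i) (hQf i) (hef i)] at hQx, rfl⟩
  have hmem : ∀ i (a b : F), a • e i + b • f i ∈ D i := fun i a b =>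
    add_mem ((D i).smul_mem _ (he i)) ((D i).smul_mem _ (hf i))
  have himg : ∀ g ∈ H, ∀ i (a b : F), a * b = 1 →
      ∃ (j : Fin 6) (a' b' : F), a' * b' = 1 ∧ (g : MM) *ᵥ (a • e i + b • f i) = a' • e j + b' • f j := by
    intro g hg i a b hab
    obtain ⟨σ, hσ⟩ := hle hg
    have hm : (g : MM) *ᵥ (a • e i + b • f i) ∈ D (σ i) := hσ i ▸ ⟨_, hmem i a b, Matrix.toLin'_apply _ _⟩
    obtain ⟨a', b', h1, h2⟩ := hval _ _ hm (by
      rw [Orth.iso_quad (Orth.omegaGL_le_isometry (hH.1.le hg)),
        OrthFrame.quad_hyperbolic (hQe i) (hQf i) (hef i), hab])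
    exact ⟨σ i, a', b', h1, h2⟩
  have hcard := Finite.one_lt_card (α := F)
  rw [Nat.card_eq_fintype_card] at hcard
  have hpw : ∀ a : F, a ≠ 0 → a ^ (Fintype.card F - 1) = 1 := FiniteField.pow_card_sub_one_eq_one
  have hpp := FiniteField.isPrimePow_card F
  by_cases h23 : Fintype.card F ≤ 3
  · -- one line of value one in each plane
    exfalso
    have hsq : ∀ a : F, a ≠ 0 → a * a = 1 := by
      intro a ha
      have h := hpw a ha
      interval_cases hq : Fintype.card F
      · rw [pow_one] at h; rw [h, mul_one]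
      · rwa [show 3 - 1 = 2 from rfl, pow_two] at h
    let u : Fin 6 → VV := fun i => e i + f i
    have hu0 : u 0 ≠ 0 := by
      intro h
      have h' := congrArg Q h
      rw [map_zero, show u 0 = e 0 + f 0 from rfl, quad_add, hQe, hQf, hef] at h'
      simp at h'
    rcases hirr (Submodule.span F (Set.range u)) (by
      rintro _ ⟨g, hg, rfl⟩
      rw [Submodule.map_span, Submodule.span_le]
      rintro _ ⟨_, ⟨i, rfl⟩, rfl⟩
      obtain ⟨j, a, b, hab, hgi⟩ := himg g hg i 1 1 (one_mul 1)
      rw [one_smul, one_smul] at hgi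
      have ha : a ≠ 0 := left_ne_zero_of_mul_eq_one hab
      have hba : b = a := mul_left_cancel₀ ha (by rw [hab, hsq a ha])
      rw [Matrix.toLin'_apply, hgi, hba, ← smul_add]
      exact Submodule.smul_mem _ _ (Submodule.subset_span ⟨j, rfl⟩)) with h | h
    · exact hu0 ((Submodule.mem_bot F).mp (h ▸ Submodule.subset_span (Set.mem_range_self 0)))
    · have hle6 := finrank_range_le_card (R := F) u
      rw [Set.finrank, h, finrank_top, Module.finrank_fin_fun, Fintype.card_fin] at hle6
      omega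
  have hq45 : Fintype.card F = 4 ∨ Fintype.card F = 5 := by
    have h6 : Fintype.card F ≠ 6 := fun h => by
      have h' : IsPrimePow 6 := h ▸ hpp
      exact absurd ((isPrimePow_nat_iff_bounded 6).mp h') (by decide +kernel)
    omega
  rcases hq45 with hq | hq
  swap
  · -- five elements
    have h5 : (5 : F) = 0 := by
      have h := FiniteField.cast_card_eq_zero F
      rwa [hq] at h
    have h2 : (2 : F) ≠ 0 := fun h => one_ne_zero (α := F) (by linear_combination h5 - 2 * h)
    refine planes_frame_case hQ hH hD hle h2 one_ne_zero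
      (fun i k => ![e i + f i, (2 : F) • e i + (3 : F) • f i] k) (fun i k => ?_) (fun i k => ?_) (fun i => ?_)
      fun i x hx hQx => ?_
    · fin_cases k
      · exact add_mem (he i) (hf i)
      · exact hmem i 2 3
    · fin_cases k
      · show Q (e i + f i) = 1
        rw [quad_add, hQe, hQf, hef]; ring
      · show Q ((2 : F) • e i + (3 : F) • f i) = 1
        rw [OrthFrame.quad_hyperbolic (hQe i) (hQf i) (hef i)]; linear_combination h5
    · show polarBilin Q (e i + f i) ((2 : F) • e i + (3 : F) • f i) = 0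
      have h := OrthFrame.polar_hyperbolic (hQe i) (hQf i) (hef i) 1 1 2 3
      rw [one_smul, one_smul] at h
      rw [h]; linear_combination h5
    · obtain ⟨a, b, hab, rfl⟩ := hval i x hx hQx
      have ha : a ≠ 0 := left_ne_zero_of_mul_eq_one hab
      have h4 : (a * a) * (a * a) = 1 := by
        have h := hpw a ha
        rw [hq] at h
        linear_combination h
      rcases mul_self_eq_one_iff.mp h4 with h | h
      · have hb : b = a := mul_left_cancel₀ ha (by rw [hab, h])
        exact ⟨0, a, by subst hb; simp [smul_add]⟩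
      · have hb : b = -a := mul_left_cancel₀ ha (by rw [hab, mul_neg, h, neg_neg])
        refine ⟨1, 3 * a, ?_⟩
        subst hb
        show a • e i + (-a) • f i = (3 * a) • ((2 : F) • e i + (3 : F) • f i)
        rw [smul_add, smul_smul, smul_smul]
        congr 1 <;> congr 1
        · linear_combination -a * h5
        · linear_combination -2 * a * h5
  -- four elements: the additive span of the vectors of value one
  haveI : CharP F 2 := by
    obtain ⟨p, hpc⟩ := CharP.exists F
    haveI := hpc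
    obtain ⟨n, hp, hn⟩ := FiniteField.card F p
    have : p = 2 := by
      have h2 : p ∣ 2 ^ 2 := by rw [show (2 : ℕ) ^ 2 = Fintype.card F by rw [hq]; norm_num, hn]; exact dvd_pow_self p n.2.ne'
      exact (Nat.prime_dvd_prime_iff_eq hp Nat.prime_two).mp (hp.dvd_of_dvd_pow h2)
    exact this ▸ hpc
  have hF0 : ∀ x : F, x ∈ (⊥ : Subfield F) ↔ x = 0 ∨ x = 1 := by
    intro x
    rw [Subfield.mem_bot_iff_pow_eq_self F 2]
    constructor
    · intro h
      rcases mul_eq_zero.mp (show x * (x - 1) = 0 by linear_combination h) with h' | h'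
      · exact Or.inl h'
      · exact Or.inr (sub_eq_zero.mp h')
    · rintro (rfl | rfl) <;> simp
  obtain ⟨w, hw0, hw1⟩ : ∃ w : F, w ≠ 0 ∧ w ≠ 1 := by
    by_contra h
    push Not at h
    have : Fintype.card F ≤ 2 := by
      rw [← Finset.card_univ]
      refine (Finset.card_le_card (t := {0, 1}) fun x _ => ?_).trans Finset.card_le_two
      by_cases hx : x = 0
      · simp [hx]
      · simp [h x hx]
    omega
  have h3w : ∀ a : F, a ≠ 0 → a * a * a = 1 := fun a ha => by
    have h := hpw a ha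
    rw [hq] at h
    linear_combination h
  have hww : w * w + w + 1 = 0 := mul_left_cancel₀ (sub_ne_zero.mpr hw1) (by linear_combination h3w w hw0)
  have hwset : ∀ a : F, a ≠ 0 → a = 1 ∨ a = w ∨ a = 1 + w := by
    intro a ha
    by_cases h1 : a = 1
    · exact Or.inl h1
    have haa : a * a + a + 1 = 0 := mul_left_cancel₀ (sub_ne_zero.mpr h1) (by linear_combination h3w a ha)
    rcases mul_eq_zero.mp (show (a - w) * (a + w + 1) = 0 by linear_combination haa - hww) with h | h
    · exact Or.inr (Or.inl (sub_eq_zero.mp h))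
    · refine Or.inr (Or.inr ?_)
      linear_combination h - (1 + w) * CharTwo.two_eq_zero (R := F)
  let p : Fin 12 ≃ Fin 6 × Fin 2 := (finProdFinEquiv (m := 6) (n := 2)).symm
  let v : Fin 6 × Fin 2 → VV := fun k => ![e k.1 + f k.1, w • e k.1 + (w * w) • f k.1] k.2
  have hvD : ∀ k, v k ∈ D k.1 := by
    rintro ⟨i, k⟩
    fin_cases k
    · exact add_mem (he i) (hf i)
    · exact hmem i _ _
  have hQv : ∀ k, Q (v k) = 1 := by
    rintro ⟨i, k⟩
    fin_cases k
    · show Q (e i + f i) = 1
      rw [quad_add, hQe, hQf, hef]; ring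
    · show Q (w • e i + (w * w) • f i) = 1
      rw [OrthFrame.quad_hyperbolic (hQe i) (hQf i) (hef i), ← mul_assoc, h3w w hw0]
  -- every vector of value one is an additive combination
  have hone : ∀ i, ∀ x ∈ D i, Q x = 1 → x = v (i, 0) ∨ x = v (i, 1) ∨ x = v (i, 0) + v (i, 1) := by
    intro i x hx hQx
    obtain ⟨a, b, hab, rfl⟩ := hval i x hx hQx
    have ha : a ≠ 0 := left_ne_zero_of_mul_eq_one hab
    have hb : b = a * a := mul_left_cancel₀ ha (by rw [hab, ← mul_assoc, h3w a ha])
    subst hb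
    rcases hwset a ha with rfl | rfl | rfl
    · left; simp [v]
    · right; left; rfl
    · right; right
      show _ = (e i + f i) + (w • e i + (w * w) • f i)
      have h1 : (1 + w) * (1 + w) = 1 + w * w := by linear_combination w * CharTwo.two_eq_zero (R := F)
      rw [h1, add_smul, add_smul, one_smul, one_smul]
      abel
  have hvli : LinearIndependent F (fun k => v (p k)) := by
    let b : Fin 12 → VV := fun k => v (p k)
    refine linearIndependent_of_top_le_span_of_card_eq_finrank (fun x _ => ?_) (by simp)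
    have hD' : x ∈ ⨆ i, D i := by rw [hD.decomp.decomp.iSup_eq_top]; trivial
    refine (iSup_le (fun i => ?_) : ⨆ i, D i ≤ Submodule.span F (Set.range b)) hD'
    intro z hz
    have h0 : v (i, 0) ∈ Submodule.span F (Set.range b) :=
      Submodule.subset_span ⟨p.symm (i, 0), by simp [b]⟩
    have h1 : v (i, 1) ∈ Submodule.span F (Set.range b) :=
      Submodule.subset_span ⟨p.symm (i, 1), by simp [b]⟩
    have hd : w * w - w ≠ 0 := fun h => hw1 (mul_left_cancel₀ hw0 (by rw [mul_one]; linear_combination h))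
    have hfz : f i = (w * w - w)⁻¹ • (v (i, 1) - w • v (i, 0)) := by
      rw [eq_inv_smul_iff₀ hd]
      show _ = (w • e i + (w * w) • f i) - w • (e i + f i)
      rw [smul_add, sub_smul]; abel
    have hfm : f i ∈ Submodule.span F (Set.range b) :=
      hfz ▸ Submodule.smul_mem _ _ (sub_mem h1 (Submodule.smul_mem _ _ h0))
    have hem : e i ∈ Submodule.span F (Set.range b) := by
      have : e i = v (i, 0) - f i := by show _ = (e i + f i) - f i; abel
      exact this ▸ sub_mem h0 hfm
    rw [hspan i z hz]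
    exact add_mem (Submodule.smul_mem _ _ hem) (Submodule.smul_mem _ _ hfm)
  let M₀ : MM := Matrix.of fun r j => v (p j) r
  have hM₀ : ∀ j, M₀ *ᵥ Pi.single j 1 = v (p j) := fun j => by rw [Matrix.mulVec_single_one]; rfl
  have hPdet : M₀.det ≠ 0 := by
    have hc : LinearIndependent F M₀.col := hvli
    exact ((Matrix.isUnit_iff_isUnit_det _).1 (Matrix.linearIndependent_cols_iff_isUnit.1 hc)).ne_zero
  let P : GL (Fin 12) F := Matrix.GeneralLinearGroup.mkOfDetNeZero M₀ hPdet
  have hP : (P : MM) = M₀ := rfl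
  have hcard2 : Nat.card (⊥ : Subfield F) = 2 := Subfield.card_bot F 2
  have hne : (⊥ : Subfield F) ≠ ⊤ := fun h => by
    rcases (hF0 w).mp (h ▸ Subfield.mem_top _) with h | h
    · exact hw0 h
    · exact hw1 h
  refine case_subfield ⟨⊥, 2, P, 1, Nat.prime_two, by rw [hcard2, hq]; norm_num, one_ne_zero, fun x hx => ?_,
    PrimeDim.OrthProper.eq_inf_of_le hH (fun g hg => ?_)
      (OrthAny.not_le_subfieldSubgroup hQ.nd (by simp) hne P)⟩
  · -- the additive span carries values in the prime field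
    show 1 * Q ((P : MM) *ᵥ x) ∈ (⊥ : Subfield F)
    rw [one_mul]
    have hpol : ∀ k l, polarBilin Q (v k) (v l) ∈ (⊥ : Subfield F) := by
      rintro ⟨i, k⟩ ⟨j, l⟩
      by_cases h : i = j
      · subst h
        rw [hF0]
        have hh := OrthFrame.polar_hyperbolic (hQe i) (hQf i) (hef i)
        have h00 := hh 1 1 1 1
        have h01 := hh 1 1 w (w * w)
        have h10 := hh w (w * w) 1 1
        have h11 := hh w (w * w) w (w * w)
        rw [one_smul, one_smul] at h00 h01 h10
        have t := CharTwo.two_eq_zero (R := F)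
        fin_cases k <;> fin_cases l
        · left; show polarBilin Q (e i + f i) (e i + f i) = 0
          rw [h00]; linear_combination t
        · right; show polarBilin Q (e i + f i) (w • e i + (w * w) • f i) = 1
          rw [h01]; linear_combination hww - t
        · right; show polarBilin Q (w • e i + (w * w) • f i) (e i + f i) = 1
          rw [h10]; linear_combination hww - t
        · left; show polarBilin Q (w • e i + (w * w) • f i) (w • e i + (w * w) • f i) = 0
          rw [h11]; linear_combination (w * w * w) * t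
      · rw [polarBilin_apply_apply, hD.decomp.orthogonal i j h _ (hvD (i, k)) _ (hvD (j, l))]
        exact zero_mem _
    have hval' : (P : MM) *ᵥ x = ∑ j, x j • v (p j) := by
      conv_lhs => rw [pi_eq_sum_univ' x, Matrix.mulVec_sum]
      refine Finset.sum_congr rfl fun j _ => ?_
      rw [Matrix.mulVec_smul, hP, hM₀]
    rw [hval']
    suffices ∀ S : Finset (Fin 12), Q (∑ j ∈ S, x j • v (p j)) ∈ (⊥ : Subfield F) from this _
    intro S
    induction S using Finset.induction_on with
    | empty => simp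
    | insert a S ha ih =>
      rw [Finset.sum_insert ha, quad_add, quad_smul, hQv, mul_one, map_sum (polarBilin Q (x a • v (p a)))]
      refine add_mem (add_mem (mul_mem (hx a) (hx a)) ih) (sum_mem fun l _ => ?_)
      rw [map_smul, map_smul, LinearMap.smul_apply, smul_eq_mul, smul_eq_mul]
      exact mul_mem (hx l) (mul_mem (hx a) (hpol _ _))
  · have hgi := Orth.omegaGL_le_isometry (hH.1.le hg)
    have hent : ∀ i j, ((P⁻¹ * g * P : GL (Fin 12) F) : MM) i j ∈ (⊥ : Subfield F) := by
      intro i j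
      obtain ⟨σ, hσ⟩ := hle hg
      have hm : (g : MM) *ᵥ v (p j) ∈ D (σ (p j).1) := hσ _ ▸ ⟨_, hvD _, Matrix.toLin'_apply _ _⟩
      have himv : ∃ (c₀ c₁ : F), c₀ ∈ (⊥ : Subfield F) ∧ c₁ ∈ (⊥ : Subfield F) ∧
          (g : MM) *ᵥ v (p j) = c₀ • v (σ (p j).1, 0) + c₁ • v (σ (p j).1, 1) := by
        rcases hone _ _ hm (by rw [Orth.iso_quad hgi, hQv]) with h | h | h
        · exact ⟨1, 0, one_mem _, zero_mem _, by rw [h]; simp⟩
        · exact ⟨0, 1, zero_mem _, one_mem _, by rw [h]; simp⟩
        · exact ⟨1, 1, one_mem _, one_mem _, by rw [h]; simp⟩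
      obtain ⟨c₀, c₁, hc₀, hc₁, hgv⟩ := himv
      have hcol : ((P⁻¹ * g * P : GL (Fin 12) F) : MM) *ᵥ Pi.single j 1
          = c₀ • Pi.single (p.symm (σ (p j).1, 0)) 1 + c₁ • Pi.single (p.symm (σ (p j).1, 1)) 1 := by
        have hb : ∀ k, v k = (P : MM) *ᵥ Pi.single (p.symm k) 1 := fun k => by rw [hP, hM₀, Equiv.apply_symm_apply]
        rw [Units.val_mul, Units.val_mul, ← Matrix.mulVec_mulVec, ← Matrix.mulVec_mulVec, hP, hM₀, hgv, hb, hb,
          ← Matrix.mulVec_smul, ← Matrix.mulVec_smul, ← Matrix.mulVec_add, Matrix.mulVec_mulVec, ← Units.val_mul,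
          inv_mul_cancel, Units.val_one, Matrix.one_mulVec]
      have h3 := congrFun hcol i
      rw [Matrix.mulVec_single_one] at h3
      rw [show ((P⁻¹ * g * P : GL (Fin 12) F) : MM) i j = _ from h3]
      simp only [Pi.add_apply, Pi.smul_apply, Pi.single_apply, smul_eq_mul]
      refine add_mem (mul_mem hc₀ ?_) (mul_mem hc₁ ?_) <;> split_ifs <;> first | exact one_mem _ | exact zero_mem _
    let A : Matrix (Fin 12) (Fin 12) (⊥ : Subfield F) := Matrix.of fun i j => ⟨_, hent i j⟩
    have hA : A.map (⊥ : Subfield F).subtype = ((P⁻¹ * g * P : GL (Fin 12) F) : MM) := rfl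
    have hAdet : A.det ≠ 0 := fun h0 => by
      have h1 : (A.map (⊥ : Subfield F).subtype).det = 0 := by
        rw [← RingHom.mapMatrix_apply, ← RingHom.map_det, h0, map_zero]
      rw [hA] at h1
      exact (Matrix.GeneralLinearGroup.det_ne_zero _) h1
    refine ⟨Matrix.GeneralLinearGroup.map ((⊥ : Subfield F).subtype : (⊥ : Subfield F) →+* F)
      (Matrix.GeneralLinearGroup.mkOfDetNeZero A hAdet), Subgroup.mem_sup_left ⟨_, rfl⟩, ?_⟩
    rw [show Matrix.GeneralLinearGroup.map ((⊥ : Subfield F).subtype : (⊥ : Subfield F) →+* F)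
      (Matrix.GeneralLinearGroup.mkOfDetNeZero A hAdet) = P⁻¹ * g * P from Units.ext hA]
    simp only [MulEquiv.coe_toMonoidHom, MulAut.conj_apply]
    group

end Cfsg.Agent.Lib.PlusTwelve
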