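import Cfsg.Agent.Lib.PlusTwelve.Defs
import Cfsg.Agent.Lib.OrthAny.ReduciblePlusTwelve

/-!
The reducible maximal subgroups of `Ω₁₂⁺(q)`.
-/

set_option autoImplicit false

namespace Cfsg.Agent.Lib.PlusTwelve

open Matrix Module
open scoped MatrixGroups Matrix

variable {F : Type*} [Field F] [Fintype F] {Q : QuadraticForm F (Fin 12 → F)}

/-- `Ω₁₂⁺(q)` stabilises no proper subspace. -/
theorem not_le_subspaceStabilizer (hQ : Plus Q) {W : Submodule F (Fin 12 → F)} (h0 : W ≠ ⊥) (h1 : W ≠ ⊤) :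
    ¬ Cfsg.Geo.omegaGL ⇑Q ≤ Cfsg.Geo.subspaceStabilizer W :=
  OrthAny.not_le_subspaceStabilizer hQ.nd (by simp) h0 h1

/-- A maximal subgroup fixing a proper subspace. -/
theorem reducible_cases (hQ : Plus Q) {H : Subgroup (GL (Fin 12) F)}
    (hH : Cfsg.Geo.IsMaximalIn (Cfsg.Geo.omegaGL ⇑Q) H) {W : Submodule F (Fin 12 → F)} (h0 : W ≠ ⊥) (h1 : W ≠ ⊤)
    (hW : ∀ g ∈ H, ∀ w ∈ W, (g : Matrix (Fin 12) (Fin 12) F) *ᵥ w ∈ W) : Cases Q H := by
  rcases OrthAny.PlusTwelve.reducible hQ.nd hQ.plus hH h0 h1 hW with h | h | h | h | h | h | h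
  · exact Or.inl h
  · exact Or.inr (Or.inl h)
  · exact Or.inr (Or.inr (Or.inl h))
  · exact Or.inr (Or.inr (Or.inr (Or.inl h)))
  · exact Or.inr (Or.inr (Or.inr (Or.inr (Or.inl h))))
  · exact Or.inr (Or.inr (Or.inr (Or.inr (Or.inr (Or.inl h)))))
  · exact Or.inr (Or.inr (Or.inr (Or.inr (Or.inr (Or.inr (Or.inr (Or.inr (Or.inr (Or.inr (Or.inr (Or.inl h)))))))))))

end Cfsg.Agent.Lib.PlusTwelve
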