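import Cfsg.Agent.Lib.PlusTwelve.TensorTwo
import Cfsg.Agent.Lib.PlusTwelve.FourFactor

/-!
helper26: the homogeneous case with two tensor factors in `Ω₁₂⁺(q)`.
-/

set_option autoImplicit false
set_option linter.unusedSectionVars false
set_option linter.style.haveILetI false

namespace Cfsg.Agent.Lib.PlusTwelve

open Matrix Cfsg.Geo
open Cfsg.Agent.Lib
open Cfsg.Agent.Lib.MaxTensor
open Cfsg.Agent.Lib.SympTwelve (formOfGram_eq_dot tens tens_injective kron_tens tens_smul dot_tens)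
open Cfsg.Agent.Lib.Geometry (quad_polar_self quad_polar_comm)
open QuadraticMap (polarBilin polarBilin_apply_apply)
open scoped MatrixGroups Matrix Kronecker

attribute [-simp] QuadraticMap.polarBilin_apply_apply

variable {F : Type*} [Field F] [Fintype F] {Q : QuadraticForm F (Fin 12 → F)}
variable {H : Subgroup (Matrix.GeneralLinearGroup (Fin 12) F)}

local notation "V12" => (Fin 12 → F)
local notation "M12" => Matrix (Fin 12) (Fin 12) F
local notation "G12" => Matrix.GeneralLinearGroup (Fin 12) F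

/-- In dimensions three and four the forms are symmetric in odd characteristic. -/
theorem three_four_sym (hirr : ActsIrreducibly (matrixSet H)) (hH : H ≤ Cfsg.isometryGroup F ⇑Q)
    (T : TensorData Q 4 3 H) : (2 : F) ≠ 0 ∧ T.ε = 1 := by
  classical
  have hdet : T.Gb.det ≠ 0 := ((Matrix.isUnit_iff_isUnit_det _).1 T.hGb).ne_zero
  have h2 : (2 : F) ≠ 0 := fun h2 => hdet (PrimeDim.FormDescent.det_alt_char_two h2 (by decide) _
    (by rw [T.symB, T.sym_one h2, one_smul]) (T.alt_b hirr hH (by norm_num) h2))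
  refine ⟨h2, (mul_self_eq_one_iff.1 T.hε).resolve_right fun hε => hdet ?_⟩
  have h := congrArg Matrix.det T.symB
  rw [Matrix.det_transpose, Matrix.det_smul, Fintype.card_fin, hε] at h
  exact (mul_eq_zero.1 (show (2 : F) * T.Gb.det = 0 by linear_combination h)).resolve_left h2

/-- The four dimensional factor has plus type. -/
theorem four_plus (hQ : Plus Q) (T : TensorData Q 4 3 H) (hε : T.ε = 1) (h2 : (2 : F) ≠ 0) :
    ∃ U₀ : Submodule F (Fin 4 → F), (∀ u ∈ U₀, u ⬝ᵥ T.Ga *ᵥ u = 0) ∧ 2 * Module.finrank F U₀ = 4 := by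
  classical
  obtain ⟨t, hor, hne⟩ := TensorData.exists_orth T hε h2
  have hS : ∀ i, MaxSub.QuadType.Nd Q (T.slice (t i)) := fun i => T.slice_nd (hne i)
  have hperp : ∀ i l, i ≠ l → T.slice (t l) ≤ MaxSub.QuadType.perp Q (T.slice (t i)) := by
    rintro i l hil _ ⟨u, rfl⟩ _ ⟨u', rfl⟩
    show polarBilin Q (T.L (tens _ u')) (T.L (tens _ u)) = 0
    rw [T.form_tens, hor i l hil, mul_zero]
  have hev : ∀ i, Even (Module.finrank F (T.slice (t i))) := fun i => by
    rw [T.finrank_slice (t.ne_zero i)]; decide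
  obtain ⟨h01, hd01⟩ := MaxSub.QuadType.nd_sup Q (hS 0) (hS 1) (hperp 0 1 (by decide))
  have hperp2 : T.slice (t 2) ≤ MaxSub.QuadType.perp Q (T.slice (t 0) ⊔ T.slice (t 1)) := by
    intro x hx y hy
    obtain ⟨a, ha, b, hb, rfl⟩ := Submodule.mem_sup.1 hy
    rw [map_add, LinearMap.add_apply, hperp 0 2 (by decide) hx a ha, hperp 1 2 (by decide) hx b hb, add_zero]
  have hev01 : Even (Module.finrank F (T.slice (t 0) ⊔ T.slice (t 1) : Submodule F V12)) := by
    rw [hd01, T.finrank_slice (t.ne_zero 0), T.finrank_slice (t.ne_zero 1)]; decide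
  obtain ⟨-, hd⟩ := MaxSub.QuadType.nd_sup Q h01 (hS 2) hperp2
  have htop : T.slice (t 0) ⊔ T.slice (t 1) ⊔ T.slice (t 2) = ⊤ := by
    refine Submodule.eq_top_of_finrank_eq ?_
    rw [hd, hd01, T.finrank_slice (t.ne_zero 0), T.finrank_slice (t.ne_zero 1), T.finrank_slice (t.ne_zero 2),
      Module.finrank_fintype_fun_eq_card, Fintype.card_fin]
  have hp := hQ.plus
  rw [← htop] at hp
  have h := (MaxSub.QuadAny.sup_iff Q hQ.nd h01 (hS 2) hperp2 hev01 (hev 2)).1 hp
  have h' := MaxSub.QuadAny.sup_iff Q hQ.nd (hS 0) (hS 1) (hperp 0 1 (by decide)) (hev 0) (hev 1)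
  rw [T.plus_slice h2 (hne 0), T.plus_slice h2 (hne 1)] at h'
  rw [T.plus_slice h2 (hne 2), h'] at h
  exact h.1 Iff.rfl

/-- Dimensions three and four over more than three elements reduce to two and six. -/
theorem three_four_big (hQ : Plus Q) (hH : IsMaximalIn (omegaGL ⇑Q) H) (hirr : ActsIrreducibly (matrixSet H))
    (T : TensorData Q 4 3 H) : Cases Q H := by
  classical
  have hiso : H ≤ Cfsg.isometryGroup F ⇑Q := fun x hx => MaxSub.Orth.omegaGL_le_isometry (hH.1.le hx)
  obtain ⟨h2, hε⟩ := three_four_sym hirr hiso T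
  obtain ⟨U₀, hts, hd⟩ := four_plus hQ T hε h2
  have hGa : T.Gaᵀ = T.Ga := by rw [T.symA, hε, one_smul]
  obtain ⟨ψ, hψ, hrul⟩ := FourFactor.exists_ruling h2 hGa T.hGa hts (by omega)
  let e6 : Fin 2 × Fin 3 ≃ Fin 6 := finProdFinEquiv
  let L₁ : ((Fin 6 × Fin 2) → F) ≃ₗ[F] ((Fin 4 × Fin 3) → F) :=
    { toFun := fun z q => ψ (fun p => z (e6 (p.1, q.2), p.2)) q.1
      invFun := fun w r => ψ.symm (fun i => w (i, (e6.symm r.1).2)) ((e6.symm r.1).1, r.2)
      map_add' := fun z z' => funext fun q => by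
        show ψ (fun p => (z + z') (e6 (p.1, q.2), p.2)) q.1 =
          ψ (fun p => z (e6 (p.1, q.2), p.2)) q.1 + ψ (fun p => z' (e6 (p.1, q.2), p.2)) q.1
        rw [← Pi.add_apply, ← map_add]; rfl
      map_smul' := fun c z => funext fun q => by
        show ψ (fun p => (c • z) (e6 (p.1, q.2), p.2)) q.1 = c • ψ (fun p => z (e6 (p.1, q.2), p.2)) q.1
        rw [← Pi.smul_apply, ← map_smul]; rfl
      left_inv := fun z => funext fun r => by
        show ψ.symm (ψ (fun p => z (e6 (p.1, (e6.symm r.1).2), p.2))) ((e6.symm r.1).1, r.2) = z r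
        rw [LinearEquiv.symm_apply_apply]
        show z (e6 ((e6.symm r.1).1, (e6.symm r.1).2), r.2) = z r
        rw [Prod.mk.eta, Equiv.apply_symm_apply]
      right_inv := fun w => funext fun q => by
        show ψ (fun p => ψ.symm (fun i => w (i, (e6.symm (e6 (p.1, q.2))).2)) ((e6.symm (e6 (p.1, q.2))).1, p.2)) q.1 = w q
        simp only [Equiv.symm_apply_apply, Prod.mk.eta]
        exact congrFun (ψ.apply_symm_apply _) q.1 }
  let L' : ((Fin 6 × Fin 2) → F) ≃ₗ[F] V12 := L₁.trans T.L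
  let col : ((Fin 6 × Fin 2) → F) → Fin 3 → (Fin 2 × Fin 2 → F) := fun z j p => z (e6 (p.1, j), p.2)
  have hL' : ∀ z, L' z = ∑ j, T.L (tens (Pi.single j 1) (ψ (col z j))) := fun z => by
    rw [← map_sum]
    show T.L (L₁ z) = _
    congr 1
    funext q
    rw [Finset.sum_apply]
    show ψ (col z q.2) q.1 = ∑ j, ψ (col z j) q.1 * (Pi.single j (1 : F) : Fin 3 → F) q.2
    simp [Pi.single_apply]
  let Ga' : Matrix (Fin 6) (Fin 6) F := (FourFactor.S2 ⊗ₖ T.Gb).submatrix e6.symm e6.symm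
  have hS2det : (FourFactor.S2 : Matrix (Fin 2) (Fin 2) F).det = 1 := by
    simp [FourFactor.S2, Matrix.det_fin_two]
  have hS2t : (FourFactor.S2 : Matrix (Fin 2) (Fin 2) F)ᵀ = (-1 : F) • FourFactor.S2 := by
    ext i l; fin_cases i <;> fin_cases l <;> simp [FourFactor.S2]
  have hform : ∀ x y, polarBilin Q (L' x) (L' y) =
      x ⬝ᵥ (Ga' ⊗ₖ (FourFactor.S2 : Matrix (Fin 2) (Fin 2) F)) *ᵥ y := fun x y => by
    rw [hL', hL']
    simp only [map_sum, LinearMap.sum_apply, T.form_tens, hψ, FourFactor.J_apply, single_dotProduct, one_mul,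
      Matrix.mulVec_single_one, Matrix.col_apply]
    simp only [dotProduct, Matrix.mulVec, Fintype.sum_prod_type, ← e6.sum_comp, Ga', Matrix.kroneckerMap_apply,
      Matrix.submatrix_apply, Equiv.symm_apply_apply, Fin.sum_univ_two, Fin.sum_univ_three, col, FourFactor.S2,
      Matrix.of_apply, Matrix.cons_val', Matrix.cons_val_zero, Matrix.cons_val_one, Matrix.empty_val',
      Matrix.cons_val_fin_one]
    ring
  have hact : ∀ h ∈ H, ∃ (C : GL (Fin 6) F) (D : GL (Fin 2) F), ∀ x, (h : M12) *ᵥ L' x =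
      L' (((C : Matrix (Fin 6) (Fin 6) F) ⊗ₖ (D : Matrix (Fin 2) (Fin 2) F)) *ᵥ x) := by
    intro h hh
    obtain ⟨C, D, μ, hμ, hCD, hD⟩ := T.act_form hiso hh
    set Cm : Matrix (Fin 4) (Fin 4) F := (C : Matrix (Fin 4) (Fin 4) F) with hCm
    set Dm : Matrix (Fin 3) (Fin 3) F := (D : Matrix (Fin 3) (Fin 3) F) with hDm
    have hdD : Dm.det ≠ 0 := ((Matrix.isUnit_iff_isUnit_det _).1 D.isUnit).ne_zero
    have hdG : T.Gb.det ≠ 0 := ((Matrix.isUnit_iff_isUnit_det _).1 T.hGb).ne_zero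
    have hDG : Dmᵀ * T.Gb * Dm = μ • T.Gb := SympTwoPrime.ext_dot fun v w => by
      rw [← Matrix.mulVec_mulVec, ← Matrix.mulVec_mulVec, Matrix.dotProduct_mulVec, Matrix.vecMul_transpose, hD,
        Matrix.smul_mulVec, dotProduct_smul, smul_eq_mul]
    have hμ3 : Dm.det * Dm.det = μ ^ 3 := by
      have h := congrArg Matrix.det hDG
      rw [Matrix.det_mul, Matrix.det_mul, Matrix.det_transpose, Matrix.det_smul, Fintype.card_fin] at h
      exact mul_right_cancel₀ hdG (by linear_combination h)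
    set ν := Dm.det / μ with hν
    have hν0 : ν ≠ 0 := div_ne_zero hdD hμ
    have hνν : ν * ν = μ := by
      rw [hν]; field_simp; linear_combination hμ3
    have hkey : ∀ u u' v v', ((Cm *ᵥ u) ⬝ᵥ T.Ga *ᵥ (Cm *ᵥ u')) * μ * (v ⬝ᵥ T.Gb *ᵥ v') =
        (u ⬝ᵥ T.Ga *ᵥ u') * (v ⬝ᵥ T.Gb *ᵥ v') := fun u u' v v' => by
      have hp := MaxSub.Orth.iso_polar (hiso hh) (T.L (tens v u)) (T.L (tens v' u'))
      rw [hCD, hCD, kron_tens, kron_tens, T.form_tens, T.form_tens, hD] at hp
      linear_combination hp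
    obtain ⟨v, v', hvv⟩ := T.swap.exists_pair_a
    change v ⬝ᵥ T.Gb *ᵥ v' = 1 at hvv
    have hC' : ∀ u u', ((ν • Cm) *ᵥ u) ⬝ᵥ T.Ga *ᵥ ((ν • Cm) *ᵥ u') = u ⬝ᵥ T.Ga *ᵥ u' := fun u u' => by
      have h := hkey u u' v v'
      rw [hvv, mul_one, mul_one] at h
      rw [Matrix.smul_mulVec, Matrix.smul_mulVec, Matrix.mulVec_smul, smul_dotProduct, dotProduct_smul,
        smul_eq_mul, smul_eq_mul, ← h, ← hνν]
      ring
    have hdC : (ν • Cm).det = 1 := by
      have h1 : (ν • Cm).det * (ν • Cm).det = 1 := by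
        have hG4 : (ν • Cm)ᵀ * T.Ga * (ν • Cm) = T.Ga := SympTwoPrime.ext_dot fun u w => by
          rw [← Matrix.mulVec_mulVec, ← Matrix.mulVec_mulVec, Matrix.dotProduct_mulVec, Matrix.vecMul_transpose, hC']
        have h := congrArg Matrix.det hG4
        rw [Matrix.det_mul, Matrix.det_mul, Matrix.det_transpose] at h
        exact mul_right_cancel₀ ((Matrix.isUnit_iff_isUnit_det _).1 T.hGa).ne_zero (by linear_combination h)
      have hdh := PrimeDim.OrthProper.det_omega (hH.1.le hh)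
      have hcomp : Matrix.toLin' (h : M12) =
          (T.L : _ →ₗ[F] V12) ∘ₗ Matrix.toLin' (Cm ⊗ₖ Dm) ∘ₗ (T.L.symm : V12 →ₗ[F] _) :=
        LinearMap.ext fun w => by
          obtain ⟨x, rfl⟩ := T.L.surjective w
          simp only [Matrix.toLin'_apply, LinearMap.comp_apply, LinearEquiv.coe_coe, LinearEquiv.symm_apply_apply,
            hCD]
      have hdet : (Cm ⊗ₖ Dm).det = 1 := by
        rw [← LinearMap.det_toLin', ← LinearMap.det_conj _ T.L, ← hcomp, LinearMap.det_toLin', hdh]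
      rw [Matrix.det_kronecker, Fintype.card_fin, Fintype.card_fin] at hdet
      have h12 : ν ^ 12 = Dm.det ^ 4 := by
        rw [show ν ^ 12 = (ν * ν) ^ 6 by ring, hνν, show μ ^ 6 = μ ^ 3 * μ ^ 3 by ring, ← hμ3]; ring
      have h3 : (ν • Cm).det ^ 3 = 1 := by
        rw [Matrix.det_smul, Fintype.card_fin, mul_pow, ← pow_mul, show 4 * 3 = 12 by norm_num, h12]
        linear_combination hdet
      linear_combination h3 - (ν • Cm).det * h1
    obtain ⟨X, Y, hXY⟩ := hrul (ν • Cm) hC' hdC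
    set Xm : Matrix (Fin 2) (Fin 2) F := (X : Matrix (Fin 2) (Fin 2) F) with hXm
    set D' : Matrix (Fin 3) (Fin 3) F := ν⁻¹ • Dm with hD'
    have hC6 : ((Xm ⊗ₖ D').submatrix e6.symm e6.symm).det ≠ 0 := by
      rw [Matrix.det_submatrix_equiv_self, Matrix.det_kronecker, hD', Matrix.det_smul]
      exact mul_ne_zero (pow_ne_zero _ ((Matrix.isUnit_iff_isUnit_det _).1 X.isUnit).ne_zero)
        (pow_ne_zero _ (mul_ne_zero (pow_ne_zero _ (inv_ne_zero hν0)) hdD))
    refine ⟨Matrix.GeneralLinearGroup.mkOfDetNeZero _ hC6, Y, fun z => ?_⟩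
    rw [hL', Matrix.mulVec_sum]
    have hterm : ∀ j, (h : M12) *ᵥ T.L (tens (Pi.single j 1) (ψ (col z j))) =
        T.L (tens (D' *ᵥ Pi.single j 1) (ψ ((Xm ⊗ₖ (Y : Matrix (Fin 2) (Fin 2) F)) *ᵥ col z j))) := fun j => by
      rw [hCD, kron_tens, ← hXY, hD', Matrix.smul_mulVec, Matrix.smul_mulVec, tens_smul, smul_smul,
        inv_mul_cancel₀ hν0, one_smul]
    rw [Finset.sum_congr rfl fun j _ => hterm j, hL', ← map_sum, ← map_sum]
    congr 1
    funext q
    obtain ⟨i, r⟩ := q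
    rw [Finset.sum_apply, Finset.sum_apply]
    have hcol : ∀ l, col (((Matrix.GeneralLinearGroup.mkOfDetNeZero _ hC6 : GL (Fin 6) F) : Matrix (Fin 6) (Fin 6) F) ⊗ₖ
        (Y : Matrix (Fin 2) (Fin 2) F) *ᵥ z) l = ∑ j, D' l j • ((Xm ⊗ₖ (Y : Matrix (Fin 2) (Fin 2) F)) *ᵥ col z j) := by
      intro l
      funext p
      show ((((Xm ⊗ₖ D').submatrix e6.symm e6.symm) ⊗ₖ (Y : Matrix (Fin 2) (Fin 2) F)) *ᵥ z) (e6 (p.1, l), p.2) = _
      simp only [Finset.sum_apply, Pi.smul_apply, smul_eq_mul, Matrix.mulVec, dotProduct, Fintype.sum_prod_type,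
        ← e6.sum_comp, Matrix.kroneckerMap_apply, Matrix.submatrix_apply, Equiv.symm_apply_apply, col,
        Fin.sum_univ_two, Fin.sum_univ_three]
      ring
    show ∑ j, ψ ((Xm ⊗ₖ (Y : Matrix (Fin 2) (Fin 2) F)) *ᵥ col z j) i * (D' *ᵥ Pi.single j (1 : F)) r =
      ∑ l, ψ (col _ l) i * (Pi.single l (1 : F) : Fin 3 → F) r
    rw [Finset.sum_eq_single (s := Finset.univ) (f := fun l => ψ (col _ l) i * (Pi.single l (1 : F) : Fin 3 → F) r) r
      (fun l _ hl => by rw [Pi.single_eq_of_ne (Ne.symm hl), mul_zero]) (fun hn => absurd (Finset.mem_univ _) hn),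
      Pi.single_eq_same, mul_one, hcol, map_sum, Finset.sum_apply]
    refine Finset.sum_congr rfl fun j _ => ?_
    rw [map_smul, Pi.smul_apply, smul_eq_mul, Matrix.mulVec_single_one, Matrix.col_apply, mul_comm]
  refine two_six hQ hH hirr ⟨L', Ga', FourFactor.S2, ?_, ?_, -1, by norm_num, ?_, hS2t, hform, hact⟩
  · rw [Matrix.isUnit_iff_isUnit_det, Matrix.det_submatrix_equiv_self, Matrix.det_kronecker, hS2det, one_pow, one_mul]
    exact ((Matrix.isUnit_iff_isUnit_det _).1 T.hGb).pow _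
  · rw [Matrix.isUnit_iff_isUnit_det, hS2det]; exact isUnit_one
  · have hGb : T.Gbᵀ = T.Gb := by rw [T.symB, hε, one_smul]
    ext a b
    have h1 := congrFun (congrFun hS2t (e6.symm a).1) (e6.symm b).1
    have h2' := congrFun (congrFun hGb (e6.symm a).2) (e6.symm b).2
    simp only [Matrix.transpose_apply, Matrix.smul_apply, smul_eq_mul] at h1 h2'
    simp only [Ga', Matrix.transpose_apply, Matrix.smul_apply, Matrix.submatrix_apply, Matrix.kroneckerMap_apply,
      smul_eq_mul, h1, h2']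
    ring

open TensorData in
/-- Over three elements the group permutes three slices. -/
theorem slices_case (hQ : Plus Q) (hH : IsMaximalIn (omegaGL ⇑Q) H)
    (hirr : ActsIrreducibly (matrixSet H)) (h3 : Fintype.card F = 3) (T : TensorData Q 4 3 H) :
    Cases Q H := by
  classical
  have hiso : H ≤ Cfsg.isometryGroup F ⇑Q := fun x hx => MaxSub.Orth.omegaGL_le_isometry (hH.1.le hx)
  obtain ⟨h2, hε⟩ := three_four_sym hirr hiso T
  obtain ⟨R, c, hc, hR, hg⟩ := OrthNine.Tensor.exists_scalar_frame h2 T.Gb (by rw [T.symB, hε, one_smul])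
    ((Matrix.isUnit_iff_isUnit_det _).1 T.hGb).ne_zero
  set t : Fin 3 → Fin 3 → F := fun i r => R r i with htdef
  have ht : ∀ i j, t i ⬝ᵥ T.Gb *ᵥ t j = if i = j then c else 0 := fun i j => by
    have h := congrFun (congrFun hg i) j
    rw [Matrix.smul_apply, Matrix.one_apply, smul_eq_mul, mul_ite, mul_one, mul_zero] at h
    rw [← h, Matrix.dotProduct_mulVec, Matrix.mul_apply]
    rfl
  have htc : ∀ i, t i ⬝ᵥ T.Gb *ᵥ t i = c := fun i => by rw [ht, if_pos rfl]
  have ht0 : ∀ i, t i ≠ 0 := fun i h => hc (by rw [← htc i, h, zero_dotProduct])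
  obtain ⟨U, hU⟩ : IsUnit R := (Matrix.isUnit_iff_isUnit_det _).2 hR.isUnit
  have hexp : ∀ x : Fin 3 → F, x = ∑ i, (((↑U⁻¹ : Matrix (Fin 3) (Fin 3) F) *ᵥ x) i) • t i := fun x => by
    conv_lhs => rw [← Matrix.one_mulVec x, ← Units.mul_inv U, ← Matrix.mulVec_mulVec, hU]
    funext l
    simp [Matrix.mulVec, dotProduct, Finset.sum_apply, htdef, mul_comm]
  set Dd : Fin 3 → Submodule F V12 := fun i => T.slice (t i) with hDd
  have hnd : ∀ i, MaxSub.QuadType.Nd Q (Dd i) := fun i => T.slice_nd (by rw [htc]; exact hc)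
  have horth : ∀ i j, i ≠ j → ∀ x ∈ Dd i, ∀ y ∈ Dd j, polarBilin Q x y = 0 := by
    rintro i j hij _ ⟨u, rfl⟩ _ ⟨u', rfl⟩
    show polarBilin Q (T.L (tens (t i) u)) (T.L (tens (t j) u')) = 0
    rw [T.form_tens, ht, if_neg hij, mul_zero]
  have hdec : IsMDecomposition 4 Dd := by
    refine ⟨by norm_num, by norm_num, fun i => T.finrank_slice (ht0 i), ?_, ?_⟩
    · intro i
      rw [disjoint_iff, eq_bot_iff]
      intro x hx
      obtain ⟨hxi, hxr⟩ := Submodule.mem_inf.1 hx
      rw [Submodule.mem_bot]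
      by_contra hx0
      obtain ⟨y, hy, hyx⟩ := hnd i x hxi hx0
      have hle : ⨆ (j : Fin 3) (_ : j ≠ i), Dd j ≤ LinearMap.ker (polarBilin Q y) :=
        iSup₂_le fun j hj w hw => by
          rw [LinearMap.mem_ker]
          exact horth i j (Ne.symm hj) y hy w hw
      apply hyx
      rw [quad_polar_comm]
      exact hle hxr
    · rw [eq_top_iff]
      intro v _
      obtain ⟨x, rfl⟩ := T.L.surjective v
      have hx : x = ∑ i, tens (t i) (fun r => ((↑U⁻¹ : Matrix (Fin 3) (Fin 3) F) *ᵥ fun j => x (r, j)) i) := by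
        funext p
        have := congrFun (hexp fun j => x (p.1, j)) p.2
        rw [Finset.sum_apply]
        simp only [Finset.sum_apply, Pi.smul_apply, smul_eq_mul] at this
        exact this
      rw [hx, map_sum]
      exact Submodule.sum_mem _ fun i _ => Submodule.mem_iSup_of_mem i ⟨_, rfl⟩
  have hsq3 : ∀ x : F, x ≠ 0 → x * x = 1 := fun x hx => by
    have h := FiniteField.pow_card_sub_one_eq_one x hx
    rw [h3] at h
    rw [← h]; ring
  have hle : H ≤ decompositionStabilizer Dd := by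
    intro h hh
    obtain ⟨C, D, μ, hμ, hCD, hD⟩ := T.act_form hiso hh
    set d : Fin 3 → Fin 3 → F := fun i => (↑U⁻¹ : Matrix (Fin 3) (Fin 3) F) *ᵥ ((D : Matrix (Fin 3) (Fin 3) F) *ᵥ t i)
    have hDt : ∀ i, (D : Matrix (Fin 3) (Fin 3) F) *ᵥ t i = ∑ l, d i l • t l := fun i => hexp _
    have hcol : ∀ i j, d i ⬝ᵥ d j = if i = j then μ else 0 := by
      intro i j
      have h := hD (t i) (t j)
      rw [hDt i, hDt j, Matrix.mulVec_sum, sum_dotProduct, ht] at h
      simp only [dotProduct_sum, smul_dotProduct, Matrix.mulVec_smul, dotProduct_smul, smul_eq_mul, ht, mul_ite,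
        mul_zero, Finset.sum_ite_eq, Finset.mem_univ, if_true] at h
      refine mul_right_cancel₀ hc ?_
      rw [ite_mul, zero_mul, ← h]
      simp only [dotProduct, Finset.mul_sum, Finset.sum_mul]
      exact Finset.sum_congr rfl fun l _ => by ring
    have hμ1 : μ = 1 := by
      let N : Matrix (Fin 3) (Fin 3) F := Matrix.of d
      have hN : N * Nᵀ = μ • 1 := by
        ext i j
        rw [Matrix.smul_apply, Matrix.one_apply, smul_eq_mul, mul_ite, mul_one, mul_zero]
        exact hcol i j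
      have h := congrArg Matrix.det hN
      rw [Matrix.det_mul, Matrix.det_transpose, Matrix.det_smul, Matrix.det_one, mul_one, Fintype.card_fin] at h
      have hdN : N.det ≠ 0 := fun h0 => by rw [h0, mul_zero] at h; exact pow_ne_zero _ hμ h.symm
      linear_combination (hsq3 _ hdN) - h - μ * (hsq3 _ hμ)
    simp only [hμ1] at hcol
    choose σ hσ hσ0 using fun i => SympTwoPrime.monomial_three h3 (d i) (by rw [hcol, if_pos rfl])
    have hσinj : Function.Injective σ := by
      intro i j hij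
      by_contra hne
      have h := hcol i j
      rw [if_neg hne, dotProduct, Finset.sum_eq_single (σ i) (fun l _ hl => by rw [hσ0 i l hl, zero_mul])
        (fun hn => absurd (Finset.mem_univ _) hn)] at h
      rcases mul_eq_zero.1 h with h | h
      · exact hσ i h
      · exact hσ j (hij ▸ h)
    refine ⟨Equiv.ofBijective σ (Finite.injective_iff_bijective.1 hσinj), fun i => ?_⟩
    rw [Equiv.ofBijective_apply]
    refine T.map_slice hCD (ht0 i) (ht0 _) (ρ := d i (σ i)) ?_
    rw [hDt i, Finset.sum_eq_single (σ i) (fun l _ hl => by rw [hσ0 i l hl, zero_smul])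
      (fun hn => absurd (Finset.mem_univ _) hn)]
  refine Or.inr (Or.inr (Or.inr (Or.inr (Or.inr (Or.inr (Or.inr (Or.inr (Or.inr (Or.inr (Or.inl
    ⟨h3.ge, Dd, ⟨⟨hdec, fun i w hw hw0 => ?_, fun i j hij u hu v hv => ?_⟩, fun i j => ?_⟩,
      PrimeDim.OrthProper.eq_inf_of_le hH hle (not_le_decompositionStabilizer hQ hdec)⟩))))))))))
  · obtain ⟨y, hy, hyw⟩ := hnd i w hw hw0
    refine ⟨⟨y, hy, ?_⟩, y, hy, ?_⟩
    · rw [← polarBilin_apply_apply, quad_polar_comm]; exact hyw
    · rw [← polarBilin_apply_apply]; exact hyw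
  · rw [← polarBilin_apply_apply]
    exact horth i j hij u hu v hv
  · have hinj : ∀ i, Function.Injective (T.L.toLinearMap ∘ₗ tens (a := 4) (t i)) := fun i =>
      T.L.injective.comp (tens_injective (ht0 i))
    refine ⟨(LinearEquiv.ofInjective _ (hinj i)).symm.trans (LinearEquiv.ofInjective _ (hinj j)), fun w => ?_⟩
    obtain ⟨u, rfl⟩ := (LinearEquiv.ofInjective _ (hinj i)).surjective w
    show Q ((LinearEquiv.ofInjective _ (hinj j)) ((LinearEquiv.ofInjective _ (hinj i)).symm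
      ((LinearEquiv.ofInjective _ (hinj i)) u)) : V12) = _
    rw [LinearEquiv.symm_apply_apply]
    show Q (T.L (tens (t j) u)) = Q (T.L (tens (t i) u))
    rw [T.quad_slice h2, T.quad_slice h2, htc, htc]

/-- The homogeneous case. -/
theorem tensor_cases (hQ : Plus Q) {N : Subgroup G12} (hH : IsMaximalIn (omegaGL ⇑Q) H)
    (hirr : ActsIrreducibly (matrixSet H)) (hN : N ≤ H) (hNG : ∀ g ∈ H, ∀ x ∈ N, g * x * g⁻¹ ∈ N) {d k : ℕ}
    (hdk : d * k = 12) (hd : 1 < d) (hk : 1 < k) (A : N → Matrix (Fin d) (Fin d) F)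
    (hAirr : ∀ U : Submodule F (Fin d → F), (∀ n, ∀ u ∈ U, A n *ᵥ u ∈ U) → U = ⊥ ∨ U = ⊤)
    (hAscal : ∀ M : Matrix (Fin d) (Fin d) F, (∀ n, M * A n = A n * M) → ∃ c : F, M = c • 1)
    (φ : Fin k → (Fin d → F) →ₗ[F] V12)
    (hequiv : ∀ j (n : N) x, ((n : G12) : M12) *ᵥ φ j x = φ j (A n *ᵥ x))
    (hbij : Function.Bijective (assemble φ)) : Cases Q H := by
  have hiso : H ≤ Cfsg.isometryGroup F ⇑Q := fun x hx => MaxSub.Orth.omegaGL_le_isometry (hH.1.le hx)
  obtain ⟨T⟩ := exists_tensorData hQ hiso hN hNG hdk hd hk A hAirr hAscal φ hequiv hbij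
  have key : ∀ T : TensorData Q 4 3 H, Cases Q H := fun T => by
    by_cases hq : Fintype.card F = 3
    · exact slices_case hQ hH hirr hq T
    · exact three_four_big hQ hH hirr T
  have hd12 : d ≤ 12 := Nat.le_of_dvd (by norm_num) ⟨k, hdk.symm⟩
  interval_cases d
  · obtain rfl : k = 6 := by omega
    exact two_six hQ hH hirr T.swap
  · obtain rfl : k = 4 := by omega
    exact key T.swap
  · obtain rfl : k = 3 := by omega
    exact key T
  all_goals first
    | omega
    | (obtain rfl : k = 2 := by omega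
       exact two_six hQ hH hirr T)

end Cfsg.Agent.Lib.PlusTwelve
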