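import Cfsg.Agent.Lib.PlusTwelve.Defs
import Cfsg.Agent.Lib.SympTwelve.Tensor

/-!
A tensor frame for the homogeneous case in `Ω₁₂⁺(q)`: the polar form is a Kronecker product of two forms of
the same symmetry.
-/

set_option autoImplicit false
set_option linter.unusedSectionVars false
set_option linter.style.haveILetI false

namespace Cfsg.Agent.Lib.PlusTwelve

open Matrix Cfsg.Geo
open Cfsg.Agent.Lib
open Cfsg.Agent.Lib.MaxTensor
open Cfsg.Agent.Lib.SympTwelve (formOfGram_eq_dot tens tens_injective kron_tens tens_smul dot_tens)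
open QuadraticMap (polarBilin)
open scoped MatrixGroups Matrix Kronecker

attribute [-simp] QuadraticMap.polarBilin_apply_apply

variable {F : Type*} [Field F]

local notation "V12" => (Fin 12 → F)
local notation "M12" => Matrix (Fin 12) (Fin 12) F
local notation "G12" => Matrix.GeneralLinearGroup (Fin 12) F

/-- A tensor frame of the polar form stabilised by `H`. -/
structure TensorData (Q : QuadraticForm F V12) (a b : ℕ) (H : Subgroup G12) where
  L : ((Fin a × Fin b) → F) ≃ₗ[F] V12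
  Ga : Matrix (Fin a) (Fin a) F
  Gb : Matrix (Fin b) (Fin b) F
  hGa : IsUnit Ga
  hGb : IsUnit Gb
  ε : F
  hε : ε * ε = 1
  symA : Gaᵀ = ε • Ga
  symB : Gbᵀ = ε • Gb
  form : ∀ x y, polarBilin Q (L x) (L y) = x ⬝ᵥ (Ga ⊗ₖ Gb) *ᵥ y
  act : ∀ h ∈ H, ∃ (C : GL (Fin a) F) (D : GL (Fin b) F), ∀ x, (h : M12) *ᵥ L x =
    L (((C : Matrix (Fin a) (Fin a) F) ⊗ₖ (D : Matrix (Fin b) (Fin b) F)) *ᵥ x)

variable {Q : QuadraticForm F (Fin 12 → F)}

theorem exists_tensorData [Fintype F] {H N : Subgroup G12} (hQ : Plus Q) (hHsp : H ≤ Cfsg.isometryGroup F ⇑Q) (hNle : N ≤ H)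
    (hNG : ∀ h ∈ H, ∀ x ∈ N, h * x * h⁻¹ ∈ N) {d k : ℕ} (hdk : d * k = 12) (hd : 1 < d) (hk : 1 < k)
    (A : N → Matrix (Fin d) (Fin d) F)
    (hirr : ∀ U : Submodule F (Fin d → F), (∀ n, ∀ u ∈ U, A n *ᵥ u ∈ U) → U = ⊥ ∨ U = ⊤)
    (hscal : ∀ M : Matrix (Fin d) (Fin d) F, (∀ n, M * A n = A n * M) → ∃ c : F, M = c • 1)
    (φ : Fin k → (Fin d → F) →ₗ[F] (Fin 12 → F))
    (hequiv : ∀ j (n : N) x, ((n : G12) : M12) *ᵥ φ j x = φ j (A n *ᵥ x))
    (hbij : Function.Bijective (assemble φ)) :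
    Nonempty (TensorData Q d k H) := by
  classical
  set B := polarBilin Q with hB
  have hφinj : ∀ j, Function.Injective (φ j) := fun j x y hxy => by
    have h := hbij.1 (a₁ := Pi.single j x) (a₂ := Pi.single j y) (by
      have e : ∀ v, assemble φ (Pi.single j v) = φ j v := fun v => by
        show ∑ l, φ l (Pi.single (M := fun _ => Fin d → F) j v l) = φ j v
        rw [Finset.sum_eq_single j (fun l _ hl => by rw [Pi.single_eq_of_ne hl, map_zero])
          (fun hn => absurd (Finset.mem_univ _) hn), Pi.single_eq_same]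
      rw [e, e, hxy])
    simpa using congrFun h j
  have hAu : ∀ n : N, IsUnit (A n) := fun n => by
    rw [← Matrix.mulVec_injective_iff_isUnit]
    intro x y hxy
    apply hφinj ⟨0, by omega⟩
    apply Matrix.mulVec_injective_iff_isUnit.2 (n : G12).isUnit
    show ((n : G12) : M12) *ᵥ _ = ((n : G12) : M12) *ᵥ _
    rw [hequiv, hequiv]
    exact congrArg _ hxy
  set M : Fin k → Fin k → Matrix (Fin d) (Fin d) F := fun i j =>
    LinearMap.BilinForm.toMatrix' (B.compl₁₂ (φ i) (φ j)) with hMdef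
  have hM : ∀ i j x y, B (φ i x) (φ j y) = x ⬝ᵥ M i j *ᵥ y := fun i j x y => by
    rw [← Matrix.toBilin'_apply', hMdef, Matrix.toBilin'_toMatrix']
    rfl
  have hinv : ∀ i j n, (A n)ᵀ * M i j * A n = M i j := fun i j n => SympTwoPrime.ext_dot fun x y => by
    rw [← hM, ← Matrix.mulVec_mulVec, ← Matrix.mulVec_mulVec, Matrix.dotProduct_mulVec, Matrix.vecMul_transpose,
      ← hM, ← hequiv, ← hequiv]
    exact MaxSub.Orth.iso_polar (hHsp (hNle n.2)) _ _
  have hflat : ∀ v w : Fin k → Fin d → F, B (assemble φ v) (assemble φ w) = ∑ i, ∑ j, v i ⬝ᵥ M i j *ᵥ w j := by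
    intro v w
    show B (∑ i, φ i (v i)) (∑ j, φ j (w j)) = _
    rw [LinearMap.map_sum₂]
    refine Finset.sum_congr rfl fun i _ => ?_
    rw [map_sum]
    exact Finset.sum_congr rfl fun j _ => hM i j _ _
  have hpart : ∀ v : V12, v ≠ 0 → ∃ u : Fin k → Fin d → F, B (assemble φ u) v ≠ 0 := fun v hv => by
    obtain ⟨x, hx⟩ : ∃ x, B x v ≠ 0 := by
      by_contra hc
      push Not at hc
      exact hv (hQ.nd.2 v hc)
    obtain ⟨u, rfl⟩ := hbij.2 x
    exact ⟨u, hx⟩
  obtain ⟨i₀, j₀, hne⟩ : ∃ i j, M i j ≠ 0 := by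
    by_contra hcon
    push Not at hcon
    obtain ⟨u, hu⟩ := hpart (Pi.single 0 1) (fun h => by simpa using congrFun h 0)
    obtain ⟨w, hw⟩ := hbij.2 (Pi.single (0 : Fin 12) (1 : F))
    apply hu
    rw [← hw, hflat]
    simp [hcon]
  set g := M i₀ j₀ with hg
  have hgu : IsUnit g := by
    rw [← Matrix.mulVec_injective_iff_isUnit]
    have hker : LinearMap.ker (Matrix.toLin' g) = ⊥ := by
      refine (hirr _ fun n u hu => ?_).resolve_right fun htop => hne ?_
      · rw [LinearMap.mem_ker, Matrix.toLin'_apply] at hu ⊢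
        refine Matrix.mulVec_injective_iff_isUnit.2 ((Matrix.isUnit_transpose _).2 (hAu n)) ?_
        rw [Matrix.mulVec_zero, Matrix.mulVec_mulVec, Matrix.mulVec_mulVec, hinv, hu]
      · refine Matrix.toLin'.injective ?_
        rw [map_zero]
        exact LinearMap.ker_eq_top.1 htop
    intro u w huw
    exact LinearMap.ker_eq_bot.1 hker (by rwa [Matrix.toLin'_apply, Matrix.toLin'_apply])
  obtain ⟨U, hU⟩ := hgu
  have hmult : ∀ X : Matrix (Fin d) (Fin d) F, (∀ n, (A n)ᵀ * X * A n = X) → ∃ c : F, X = c • g := by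
    intro X hX
    obtain ⟨c, hc⟩ := hscal ((↑U⁻¹ : Matrix (Fin d) (Fin d) F) * X) fun n => by
      set Mx := (↑U⁻¹ : Matrix (Fin d) (Fin d) F) * X with hMx
      have hgM : g * Mx = X := by rw [hMx, ← mul_assoc, ← hU, Units.mul_inv, one_mul]
      refine (hU ▸ U.isUnit).mul_left_cancel (((Matrix.isUnit_transpose _).2 (hAu n)).mul_left_cancel ?_)
      calc (A n)ᵀ * (g * (Mx * A n)) = (A n)ᵀ * (g * Mx) * A n := by simp only [mul_assoc]
        _ = X := by rw [hgM, hX n]
        _ = (A n)ᵀ * g * A n * Mx := by rw [hinv i₀ j₀ n, hgM]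
        _ = (A n)ᵀ * (g * (A n * Mx)) := by simp only [mul_assoc]
    refine ⟨c, ?_⟩
    have h := congrArg (fun Y => (U : Matrix (Fin d) (Fin d) F) * Y) hc
    simp only [← mul_assoc, Units.mul_inv, one_mul, Matrix.mul_smul, mul_one] at h
    rw [h, hU]
  choose β hβ using fun i j => hmult _ (hinv i j)
  set Bm : Matrix (Fin k) (Fin k) F := Matrix.of β with hBm
  have hval : ∀ v w : Fin k → Fin d → F,
      B (assemble φ v) (assemble φ w) = ∑ i, ∑ j, Bm i j * (v i ⬝ᵥ g *ᵥ w j) := fun v w => by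
    rw [hflat]
    refine Finset.sum_congr rfl fun i _ => Finset.sum_congr rfl fun j _ => ?_
    rw [hβ, Matrix.smul_mulVec, dotProduct_smul, smul_eq_mul]; rfl
  haveI : Nonempty (Fin d) := ⟨⟨0, by omega⟩⟩
  have hBu : IsUnit Bm := by
    rw [← Matrix.mulVec_injective_iff_isUnit]
    intro v w hvw
    by_contra hne'
    set z := v - w
    have hz : z ≠ 0 := sub_ne_zero.2 hne'
    have hzB : Bm *ᵥ z = 0 := by rw [Matrix.mulVec_sub]; exact sub_eq_zero.2 hvw
    obtain ⟨i, hi⟩ := Function.ne_iff.1 hz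
    let x : Fin d → F := Pi.single ⟨0, by omega⟩ 1
    have hx : assemble φ (fun j => z j • x) ≠ 0 := fun h => hi (by
      have h' := congrFun (congrFun ((injective_iff_map_eq_zero (assemble φ)).1 hbij.1 _ h) i) ⟨0, by omega⟩
      simpa [x] using h')
    obtain ⟨u, hu⟩ := hpart _ hx
    apply hu
    rw [hval]
    refine Finset.sum_eq_zero fun i' _ => ?_
    have : ∀ j, Bm i' j * (u i' ⬝ᵥ g *ᵥ (z j • x)) = Bm i' j * z j * (u i' ⬝ᵥ g *ᵥ x) := fun j => by
      rw [Matrix.mulVec_smul, dotProduct_smul, smul_eq_mul]; ring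
    rw [Finset.sum_congr rfl fun j _ => this j, ← Finset.sum_mul]
    show (Bm *ᵥ z) i' * _ = 0
    rw [hzB, Pi.zero_apply, zero_mul]
  obtain ⟨ε, hε⟩ := hmult gᵀ fun n => by
    rw [← Matrix.transpose_transpose (A n), ← Matrix.transpose_mul, ← Matrix.transpose_mul, Matrix.transpose_transpose,
      ← mul_assoc, hinv]
  obtain ⟨a, b, hab⟩ : ∃ a b, g a b ≠ 0 := PrimeDim.FormDescent.exists_ne_entry (by rw [← hU]; exact U.isUnit)
  have hεε : ε * ε = 1 := by
    have h1 := congrFun (congrFun hε b) a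
    have h2 := congrFun (congrFun hε a) b
    simp only [Matrix.transpose_apply, Matrix.smul_apply, smul_eq_mul] at h1 h2
    exact mul_right_cancel₀ hab (by linear_combination -h1 - ε * h2)
  have hswap : ∀ x y : Fin d → F, y ⬝ᵥ g *ᵥ x = ε * (x ⬝ᵥ g *ᵥ y) := fun x y => by
    rw [Matrix.dotProduct_mulVec, dotProduct_comm, ← Matrix.mulVec_transpose, hε, Matrix.smul_mulVec, dotProduct_smul,
      smul_eq_mul]
  have hskew : ∀ i j, Bm j i * ε = Bm i j := fun i j => by
    have h : B (φ i (Pi.single a 1)) (φ j (Pi.single b 1)) = B (φ j (Pi.single b 1)) (φ i (Pi.single a 1)) :=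
      QuadraticMap.polar_comm ⇑Q _ _
    rw [hM, hM, hβ, hβ, Matrix.smul_mulVec, Matrix.smul_mulVec, dotProduct_smul, dotProduct_smul,
      hswap (Pi.single a 1) (Pi.single b 1)] at h
    simp only [Matrix.mulVec_single_one, single_dotProduct, one_mul, smul_eq_mul] at h
    change β i j * g a b = _ at h
    show β j i * ε = β i j
    exact mul_right_cancel₀ hab (by simp only [Matrix.col_apply] at h ⊢; linear_combination -h)
  have hkron : ∀ h ∈ H, ∃ (C : GL (Fin d) F) (D : GL (Fin k) F), ∀ v : Fin k → Fin d → F,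
      (h : M12) *ᵥ assemble φ v =
        assemble φ fun a => ∑ b, (D : Matrix (Fin k) (Fin k) F) a b • ((C : Matrix (Fin d) (Fin d) F) *ᵥ v b) :=
    fun h hh => SympTwoPrime.exists_kronecker (by omega) (by omega) A hirr hscal φ hequiv hbij h
      fun x hx => hNG h hh x hx
  have hsym : Bmᵀ = ε • Bm := by
    ext i j
    rw [Matrix.transpose_apply, Matrix.smul_apply, smul_eq_mul, ← hskew i j, mul_comm (Bm j i) ε, ← mul_assoc, hεε,
      one_mul]
  let sw : ((Fin d × Fin k) → F) ≃ₗ[F] (Fin k → Fin d → F) :=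
    { toFun := fun x j i => x (i, j)
      invFun := fun v p => v p.2 p.1
      map_add' := fun _ _ => rfl
      map_smul' := fun _ _ => rfl
      left_inv := fun _ => rfl
      right_inv := fun _ => rfl }
  refine ⟨⟨sw.trans (LinearEquiv.ofBijective _ hbij), g, Bm, hU ▸ U.isUnit, hBu, ε, hεε, hε, hsym, fun x y => ?_,
    fun h hh => ?_⟩⟩
  · show B (assemble φ fun j i => x (i, j)) (assemble φ fun j i => y (i, j)) = _
    rw [hval, ← formOfGram_eq_dot]
    simp only [formOfGram, dotProduct, Matrix.mulVec, Matrix.kroneckerMap_apply, Fintype.sum_prod_type,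
      Finset.mul_sum, id_eq]
    conv_rhs => rw [Finset.sum_comm]
    refine Finset.sum_congr rfl fun j _ => ?_
    rw [Finset.sum_comm]
    refine Finset.sum_congr rfl fun i _ => ?_
    rw [Finset.sum_comm]
    exact Finset.sum_congr rfl fun i' _ => Finset.sum_congr rfl fun l _ => by ring
  · obtain ⟨C, D, hCD⟩ := hkron h hh
    refine ⟨C, D, fun x => ?_⟩
    show (h : M12) *ᵥ assemble φ (fun j i => x (i, j)) = _
    rw [hCD]
    show _ = assemble φ _
    congr 1
    funext j i
    show _ = (((C : Matrix (Fin d) (Fin d) F) ⊗ₖ (D : Matrix (Fin k) (Fin k) F)) *ᵥ x) (i, j)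
    simp only [Finset.sum_apply, Pi.smul_apply, smul_eq_mul, Matrix.mulVec, dotProduct, Finset.mul_sum]
    rw [Fintype.sum_prod_type, Finset.sum_comm]
    exact Finset.sum_congr rfl fun s _ => Finset.sum_congr rfl fun l _ => by
      rw [Matrix.kroneckerMap_apply]; ring

end Cfsg.Agent.Lib.PlusTwelve
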