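import Cfsg.Agent.Lib.PlusTwelve.TensorBase
import Cfsg.Agent.Lib.PlusTwelve.Main

/-!
helper26: tensor products of forms in dimensions two and six inside `Ω₁₂⁺(q)`.
-/

set_option autoImplicit false
set_option linter.unusedSectionVars false
set_option linter.style.haveILetI false

namespace Cfsg.Agent.Lib.PlusTwelve

open Matrix Cfsg.Geo
open Cfsg.Agent.Lib
open Cfsg.Agent.Lib.SympTwelve (formOfGram_eq_dot tens tens_injective kron_tens tens_smul dot_tens)
open Cfsg.Agent.Lib.Geometry (quad_polar_self)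
open QuadraticMap (polarBilin polarBilin_apply_apply)
open scoped MatrixGroups Matrix Kronecker

attribute [-simp] QuadraticMap.polarBilin_apply_apply

variable {F : Type*} [Field F] [Fintype F] {Q : QuadraticForm F (Fin 12 → F)}
variable {H : Subgroup (Matrix.GeneralLinearGroup (Fin 12) F)}

local notation "V12" => (Fin 12 → F)
local notation "M12" => Matrix (Fin 12) (Fin 12) F
local notation "G12" => Matrix.GeneralLinearGroup (Fin 12) F

/-- A quadratic extension on the second factor of a tensor frame normalised by the group. -/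
theorem field_two_factor (hQ : Plus Q) (hH : IsMaximalIn (omegaGL ⇑Q) H) (T : TensorData Q 6 2 H)
    (j : Matrix (Fin 2) (Fin 2) F) (α β : F) (hjj : j * j = α • j + β • 1) (hroot : ∀ r : F, r * r ≠ α * r + β)
    (hnorm : ∀ h ∈ H, ∃ (C : GL (Fin 6) F) (D : GL (Fin 2) F) (a b : F),
      (∀ x, (h : M12) *ᵥ T.L x =
        T.L (((C : Matrix (Fin 6) (Fin 6) F) ⊗ₖ (D : Matrix (Fin 2) (Fin 2) F)) *ᵥ x)) ∧
      (D : Matrix (Fin 2) (Fin 2) F) * j = (a • 1 + b • j) * (D : Matrix (Fin 2) (Fin 2) F)) :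
    Cases Q H := by
  classical
  set J : M12 := LinearMap.toMatrix'
    (T.L.toLinearMap ∘ₗ Matrix.toLin' ((1 : Matrix (Fin 6) (Fin 6) F) ⊗ₖ j) ∘ₗ T.L.symm.toLinearMap) with hJ
  have hJx : ∀ x, J *ᵥ T.L x = T.L (((1 : Matrix (Fin 6) (Fin 6) F) ⊗ₖ j) *ᵥ x) := fun x => by
    rw [hJ, LinearMap.toMatrix'_mulVec]
    simp only [LinearMap.coe_comp, LinearEquiv.coe_coe, Function.comp_apply, LinearEquiv.symm_apply_apply,
      Matrix.toLin'_apply]
  have hext : ∀ M M' : M12, (∀ x, M *ᵥ T.L x = M' *ᵥ T.L x) → M = M' := fun M M' h => by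
    refine Matrix.toLin'.injective (LinearMap.ext fun v => ?_)
    obtain ⟨x, rfl⟩ := T.L.surjective v
    simpa only [Matrix.toLin'_apply] using h x
  have hJJ : J * J = α • J + β • (1 : M12) := hext _ _ fun x => by
    rw [← Matrix.mulVec_mulVec, hJx, hJx, Matrix.mulVec_mulVec, ← Matrix.mul_kronecker_mul, one_mul, hjj,
      Matrix.kronecker_add, Matrix.kronecker_smul, Matrix.kronecker_smul, Matrix.one_kronecker_one,
      Matrix.add_mulVec, Matrix.smul_mulVec, Matrix.smul_mulVec, Matrix.one_mulVec, map_add, map_smul, map_smul,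
      Matrix.add_mulVec, Matrix.smul_mulVec, Matrix.smul_mulVec, Matrix.one_mulVec, hJx]
  have hJns : ∀ r : F, J ≠ r • 1 := fun r hr => by
    refine hroot r ?_
    have h := hJJ
    rw [hr, smul_mul_assoc, one_mul, smul_smul, smul_smul, ← add_smul] at h
    simpa using congrFun (congrFun h 0) 0
  let K : Subalgebra F M12 :=
    { carrier := {M | ∃ a b : F, M = a • 1 + b • J}
      one_mem' := ⟨1, 0, by simp⟩
      zero_mem' := ⟨0, 0, by simp⟩
      add_mem' := by
        rintro _ _ ⟨a, b, rfl⟩ ⟨a', b', rfl⟩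
        exact ⟨a + a', b + b', by module⟩
      mul_mem' := by
        rintro _ _ ⟨a, b, rfl⟩ ⟨a', b', rfl⟩
        refine ⟨a * a' + b * b' * β, a * b' + b * a' + b * b' * α, ?_⟩
        simp only [add_mul, mul_add, smul_mul_assoc, mul_smul_comm, one_mul, mul_one, hJJ, smul_add, smul_smul]
        module
      algebraMap_mem' := fun a => ⟨a, 0, by rw [zero_smul, add_zero, Algebra.algebraMap_eq_smul_one]⟩ }
  have hzero : ∀ a b : F, a • (1 : M12) + b • J = 0 → a = 0 ∧ b = 0 := by
    intro a b h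
    have hb : b = 0 := by
      by_contra hb
      refine hJns (-(a / b)) ?_
      have := congrArg (fun M => b⁻¹ • M) h
      simp only [smul_add, smul_smul, inv_mul_cancel₀ hb, one_smul, smul_zero] at this
      rw [eq_neg_of_add_eq_zero_right this, ← neg_smul, div_eq_inv_mul]
    rw [hb, zero_smul, add_zero] at h
    exact ⟨by simpa using congrFun (congrFun h 0) 0, hb⟩
  have hKf : IsFieldSubalgebra 2 K := by
    refine ⟨?_, ?_, ?_⟩
    · rintro _ ⟨a, b, rfl⟩ _ ⟨a', b', rfl⟩
      simp only [add_mul, mul_add, smul_mul_assoc, mul_smul_comm, one_mul, mul_one, hJJ, smul_add, smul_smul]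
      module
    · rintro _ ⟨a, b, rfl⟩ hne
      set n := a * a + a * b * α - b * b * β with hn
      have hn0 : n ≠ 0 := by
        intro h0
        rw [hn] at h0
        rcases eq_or_ne b 0 with hb | hb
        · refine hne ?_
          rw [hb] at h0
          have : a = 0 := mul_self_eq_zero.1 (by linear_combination h0)
          rw [this, hb]; simp
        · exact hroot (-(a / b)) (by field_simp; linear_combination h0)
      refine ⟨((a + b * α) / n) • 1 + (-b / n) • J, ⟨_, _, rfl⟩, ?_⟩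
      simp only [add_mul, mul_add, smul_mul_assoc, mul_smul_comm, one_mul, mul_one, hJJ, smul_add, smul_smul]
      match_scalars <;> field_simp <;> ring_nf <;> simp [hn] <;> ring
    · let f : (Fin 2 → F) →ₗ[F] M12 :=
        (LinearMap.proj 0).smulRight 1 + (LinearMap.proj 1).smulRight J
      have hr : LinearMap.range f = Subalgebra.toSubmodule K := by
        refine le_antisymm ?_ ?_
        · rintro _ ⟨u, rfl⟩; exact ⟨u 0, u 1, rfl⟩
        · rintro _ ⟨a, b, rfl⟩; exact ⟨![a, b], by simp [f]⟩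
      have hf : Function.Injective f := (injective_iff_map_eq_zero f).2 fun u hu => by
        obtain ⟨h0, h1⟩ := hzero (u 0) (u 1) hu
        funext i; fin_cases i <;> simpa
      show Module.finrank F (Subalgebra.toSubmodule K) = 2
      rw [← hr, LinearMap.finrank_range_of_inj hf, Module.finrank_fin_fun]
  have hfwd : ∀ h ∈ H, ∀ M ∈ K, (h : M12) * M * ((h⁻¹ : G12) : M12) ∈ K := by
    intro h hh M hM
    obtain ⟨C, D, a', b', hCD, hD⟩ := hnorm h hh
    have hcomm : (h : M12) * J = (a' • 1 + b' • J) * (h : M12) := hext _ _ fun x => by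
      rw [← Matrix.mulVec_mulVec, hJx, hCD, ← Matrix.mulVec_mulVec, hCD, Matrix.mulVec_mulVec,
        ← Matrix.mul_kronecker_mul, mul_one, hD, Matrix.add_mulVec, Matrix.smul_mulVec, Matrix.smul_mulVec,
        Matrix.one_mulVec, hJx, ← map_smul, ← map_smul, ← map_add, ← Matrix.one_mulVec (a' • _), Matrix.mulVec_smul,
        ← Matrix.smul_mulVec, ← Matrix.smul_mulVec, ← Matrix.add_mulVec, ← Matrix.kronecker_smul,
        ← Matrix.one_kronecker_one, ← Matrix.kronecker_smul, ← Matrix.kronecker_add, Matrix.mulVec_mulVec,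
        ← Matrix.mul_kronecker_mul, one_mul]
    obtain ⟨a, b, rfl⟩ := hM
    refine ⟨a + b * a', b * b', ?_⟩
    simp only [mul_add, add_mul, mul_smul_comm, mul_one, hcomm, smul_mul_assoc, one_mul, mul_assoc, Units.mul_inv,
      smul_add, smul_smul, add_smul]
    abel
  refine field_cases hH (fun r K hr hK => not_le_subalgebraNormalizer hQ hr hK) K hKf one_lt_two (by norm_num) ?_
  intro h hh M
  refine ⟨hfwd h hh M, fun hM => ?_⟩
  have := hfwd h⁻¹ (inv_mem hh) _ hM
  rw [inv_inv] at this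
  rwa [← mul_assoc, ← mul_assoc, Units.inv_mul, one_mul, mul_assoc, Units.inv_mul, mul_one] at this

/-- Symmetric factors in odd characteristic: a quadratic field or two totally singular halves. -/
theorem two_six_symm (hQ : Plus Q) (hH : IsMaximalIn (omegaGL ⇑Q) H) (T : TensorData Q 6 2 H) (hε : T.ε = 1)
    (h2 : (2 : F) ≠ 0) : Cases Q H := by
  classical
  have hiso : H ≤ Cfsg.isometryGroup F ⇑Q := fun x hx => MaxSub.Orth.omegaGL_le_isometry (hH.1.le hx)
  set G := T.Gb with hG
  have h10 : G 1 0 = G 0 1 := by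
    have := congrFun (congrFun T.symB 0) 1
    simpa [hε, hG] using this
  set c : F := G 0 1 * G 0 1 - G 0 0 * G 1 1 with hc
  set j : Matrix (Fin 2) (Fin 2) F := !![G 0 1, G 1 1; -(G 0 0), -(G 0 1)] with hj
  have hdetG : G.det = -c := by rw [Matrix.det_fin_two, h10, hc]; ring
  have hc0 : c ≠ 0 := fun h => ((Matrix.isUnit_iff_isUnit_det _).1 T.hGb).ne_zero (by rw [← hG, hdetG, h, neg_zero])
  by_cases hsq : ∃ s, s * s = c
  swap
  · push Not at hsq
    refine field_two_factor hQ hH T j 0 c ?_ (fun r => by rw [zero_mul, zero_add]; exact hsq r) fun h hh => ?_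
    · ext i l; fin_cases i <;> fin_cases l <;> simp [j, Matrix.mul_apply, Fin.sum_univ_two, c] <;> ring
    · obtain ⟨C, D, μ, -, hCD, hD⟩ := T.act_form hiso hh
      set Dm : Matrix (Fin 2) (Fin 2) F := (D : Matrix (Fin 2) (Fin 2) F) with hDm
      have hdet : Dm.det ≠ 0 := ((Matrix.isUnit_iff_isUnit_det _).1 D.isUnit).ne_zero
      refine ⟨C, D, 0, μ / Dm.det, hCD, ?_⟩
      set S : Matrix (Fin 2) (Fin 2) F := !![0, 1; -1, 0] with hS
      have hGj : G * j = (-c) • S := by
        ext i l; fin_cases i <;> fin_cases l <;> simp [j, S, Matrix.mul_apply, Fin.sum_univ_two, h10, c] <;> ring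
      have hDS : Dmᵀ * S * Dm = Dm.det • S := by
        ext i l; fin_cases i <;> fin_cases l <;>
          simp [S, Matrix.mul_apply, Fin.sum_univ_two, Matrix.det_fin_two] <;> ring
      have hDG : Dmᵀ * G * Dm = μ • G := SympTwoPrime.ext_dot fun v w => by
        rw [← Matrix.mulVec_mulVec, ← Matrix.mulVec_mulVec, Matrix.dotProduct_mulVec, Matrix.vecMul_transpose, hD,
          Matrix.smul_mulVec, dotProduct_smul, smul_eq_mul]
      rw [zero_smul, zero_add, smul_mul_assoc]
      refine (((Matrix.isUnit_transpose _).2 D.isUnit).mul T.hGb).mul_left_cancel ?_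
      rw [← hG, ← mul_assoc, hDG, smul_mul_assoc, hGj, smul_smul, mul_smul_comm, mul_assoc Dmᵀ G, ← mul_assoc G j,
        hGj, smul_mul_assoc, mul_smul_comm, ← mul_assoc, hDS, smul_smul, smul_smul]
      congr 1
      field_simp
  obtain ⟨s, hs⟩ := hsq
  have hs0 : s ≠ 0 := fun h => hc0 (by rw [← hs, h, mul_zero])
  have hqf : ∀ u : Fin 2 → F, u ⬝ᵥ G *ᵥ u = G 0 0 * (u 0 * u 0) + 2 * G 0 1 * (u 0 * u 1) + G 1 1 * (u 1 * u 1) :=
    fun u => by simp [Matrix.mulVec, dotProduct, Fin.sum_univ_two, h10]; ring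
  -- two isotropic vectors
  obtain ⟨t, hti, hts⟩ : ∃ t : Fin 2 → Fin 2 → F, t 0 0 * t 1 1 - t 0 1 * t 1 0 ≠ 0 ∧
      ∀ i, t i ⬝ᵥ G *ᵥ t i = 0 := by
    rcases eq_or_ne (G 0 0) 0 with h00 | h00
    · have h01 : G 0 1 ≠ 0 := fun h => hc0 (by rw [hc, h00, h]; ring)
      refine ⟨![![1, 0], ![-(G 1 1), 2 * G 0 1]], by simp [h2, h01], fun i => ?_⟩
      rw [hqf]
      fin_cases i <;> simp [h00] <;> ring
    · refine ⟨![![-(G 0 1) + s, G 0 0], ![-(G 0 1) - s, G 0 0]], ?_, fun i => ?_⟩
      · have h : (2 : F) * s * G 0 0 ≠ 0 := mul_ne_zero (mul_ne_zero h2 hs0) h00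
        simpa using fun h' => h (by linear_combination h')
      · rw [hqf]
        fin_cases i <;> simp <;> linear_combination (G 0 0) * hs
  have ht0 : ∀ i, t i ≠ 0 := fun i h => hti (by
    fin_cases i
    · simp at h; rw [show t 0 0 = 0 from congrFun h 0, show t 0 1 = 0 from congrFun h 1]; ring
    · simp at h; rw [show t 1 0 = 0 from congrFun h 0, show t 1 1 = 0 from congrFun h 1]; ring)
  set Δ := t 0 0 * t 1 1 - t 0 1 * t 1 0 with hΔ
  have hexp : ∀ v : Fin 2 → F, ∃ a b : F, v = a • t 0 + b • t 1 := fun v => by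
    refine ⟨(v 0 * t 1 1 - v 1 * t 1 0) / Δ, (t 0 0 * v 1 - t 0 1 * v 0) / Δ, ?_⟩
    funext i
    fin_cases i <;> simp <;> field_simp <;> rw [hΔ] <;> ring
  have hB01 : t 0 ⬝ᵥ G *ᵥ t 1 ≠ 0 := fun h0 => ht0 0 (T.nd_b fun x => by
    obtain ⟨a, b, rfl⟩ := hexp x
    rw [← hG, Matrix.mulVec_add, dotProduct_add, Matrix.mulVec_smul, Matrix.mulVec_smul, dotProduct_smul,
      dotProduct_smul, hts, h0, smul_zero, smul_zero, add_zero])
  have hB10 : t 1 ⬝ᵥ G *ᵥ t 0 = t 0 ⬝ᵥ G *ᵥ t 1 := T.comm_b hε _ _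
  have hiso2 : ∀ v : Fin 2 → F, v ⬝ᵥ G *ᵥ v = 0 → ∃ i, ∃ ρ : F, v = ρ • t i := fun v hv => by
    obtain ⟨a, b, rfl⟩ := hexp v
    rw [Matrix.mulVec_add, dotProduct_add, add_dotProduct, add_dotProduct, Matrix.mulVec_smul, Matrix.mulVec_smul,
      smul_dotProduct, smul_dotProduct, smul_dotProduct, smul_dotProduct, dotProduct_smul, dotProduct_smul,
      dotProduct_smul, dotProduct_smul, hts, hts, hB10] at hv
    simp only [smul_eq_mul, mul_zero, zero_add, add_zero] at hv
    have h : (2 : F) * (t 0 ⬝ᵥ G *ᵥ t 1) * (a * b) = 0 := by linear_combination hv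
    rcases mul_eq_zero.1 ((mul_eq_zero.1 h).resolve_left (mul_ne_zero h2 hB01)) with h | h
    · exact ⟨1, b, by rw [h, zero_smul, zero_add]⟩
    · exact ⟨0, a, by rw [h, zero_smul, add_zero]⟩
  set Dd : Fin 2 → Submodule F V12 := fun i => T.slice (t i) with hDd
  have htsQ : ∀ i, IsTotallySingularQuad ⇑Q (Dd i) := by
    rintro i _ ⟨u, rfl⟩
    show Q (T.L (tens (t i) u)) = 0
    rw [T.quad_slice h2, ← hG, hts, mul_zero, zero_div]
  have htop : Dd 0 ⊔ Dd 1 = ⊤ := by
    rw [eq_top_iff]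
    intro v _
    obtain ⟨x, rfl⟩ := T.L.surjective v
    choose A B hAB using fun r : Fin 6 => hexp fun l => x (r, l)
    have hx : x = tens (t 0) A + tens (t 1) B := funext fun p => congrFun (hAB p.1) p.2
    rw [hx, map_add]
    exact Submodule.add_mem_sup ⟨A, rfl⟩ ⟨B, rfl⟩
  have hinf : Dd 0 ⊓ Dd 1 = ⊥ := by
    have h := Submodule.finrank_sup_add_finrank_inf_eq (Dd 0) (Dd 1)
    rw [htop, T.finrank_slice (ht0 0), T.finrank_slice (ht0 1), finrank_top, Module.finrank_fintype_fun_eq_card,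
      Fintype.card_fin] at h
    exact Submodule.finrank_eq_zero.1 (by omega)
  have hdec : IsMDecomposition 6 Dd := by
    refine ⟨le_rfl, by norm_num, fun i => T.finrank_slice (ht0 i), ?_, ?_⟩
    · intro i
      fin_cases i
      · refine Disjoint.mono_right (iSup₂_le fun l hl => ?_) (disjoint_iff.2 hinf)
        fin_cases l
        · exact absurd rfl hl
        · exact le_rfl
      · refine Disjoint.mono_right (iSup₂_le fun l hl => ?_) (disjoint_iff.2 hinf).symm
        fin_cases l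
        · exact le_rfl
        · exact absurd rfl hl
    · exact top_le_iff.1 (htop ▸ sup_le (le_iSup Dd 0) (le_iSup Dd 1))
  have hle : H ≤ decompositionStabilizer Dd := by
    intro h hh
    obtain ⟨C, D, μ, -, hCD, hD⟩ := T.act_form hiso hh
    choose σ ρ hσ using fun i => hiso2 ((D : Matrix (Fin 2) (Fin 2) F) *ᵥ t i) (by rw [hG, hD, ← hG, hts, mul_zero])
    have hmap : ∀ i, (Dd i).map (Matrix.toLin' (h : M12)) = Dd (σ i) := fun i =>
      T.map_slice hCD (ht0 i) (ht0 _) (hσ i)
    have hσi : Function.Injective σ := fun i l hil => by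
      have he : Dd i = Dd l := Submodule.map_injective_of_injective
        (f := Matrix.toLin' (h : M12))
        (fun u v huv => Matrix.mulVec_injective_iff_isUnit.2 h.isUnit (by simpa [Matrix.toLin'_apply] using huv))
        (by rw [hmap, hmap, hil])
      by_contra hne
      have hd := hdec.indep.pairwiseDisjoint hne
      rw [Function.onFun, ← he, disjoint_self] at hd
      have := T.finrank_slice (ht0 i)
      rw [show T.slice (t i) = ⊥ from hd, finrank_bot] at this
      omega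
    exact ⟨Equiv.ofBijective σ (Finite.injective_iff_bijective.1 hσi), hmap⟩
  exact Or.inr (Or.inr (Or.inr (Or.inr (Or.inr (Or.inr (Or.inr (Or.inr (Or.inr (Or.inr (Or.inr (Or.inr (Or.inl
    ⟨Dd, hdec, htsQ, PrimeDim.OrthProper.eq_inf_of_le hH hle (not_le_decompositionStabilizer hQ hdec)⟩))))))))))))

/-- Alternating factors. -/
theorem two_six_alt (hQ : Plus Q) (hH : IsMaximalIn (omegaGL ⇑Q) H) (T : TensorData Q 6 2 H)
    (hA : ∀ v, v ⬝ᵥ T.Ga *ᵥ v = 0) (hB : ∀ v, v ⬝ᵥ T.Gb *ᵥ v = 0)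
    (hpure : ∀ t u, Q (T.L (tens t u)) = 0) : Cases Q H := by
  classical
  by_cases h3 : 3 ≤ Fintype.card F
  swap
  · -- two elements
    have hcard : Fintype.card F = 2 := by have := Fintype.one_lt_card (α := F); omega
    have hall : ∀ x : F, x = 0 ∨ x = 1 := fun x => by
      by_contra hc
      push Not at hc
      have : 3 ≤ Fintype.card F := by
        have h := Finset.card_le_univ ({0, 1, x} : Finset F)
        rw [Finset.card_insert_of_notMem (by simp [zero_ne_one, hc.1.symm]),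
          Finset.card_insert_of_notMem (by simp [hc.2.symm]), Finset.card_singleton] at h
        exact h
      omega
    have h11 : (1 : F) + 1 = 0 := by
      rcases hall (1 + 1) with h | h
      · exact h
      · exact absurd (add_left_cancel (h.trans (add_zero 1).symm)) one_ne_zero
    refine field_two_factor hQ hH T !![0, 1; 1, 1] 1 1 ?_ (fun r => ?_) fun h hh => ?_
    · ext i l; fin_cases i <;> fin_cases l <;> simp [Matrix.mul_apply, Fin.sum_univ_two]
    · rcases hall r with rfl | rfl <;> simp [h11]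
    · obtain ⟨C, D, hCD⟩ := T.act h hh
      have hdet : (D : Matrix (Fin 2) (Fin 2) F).det ≠ 0 := ((Matrix.isUnit_iff_isUnit_det _).1 D.isUnit).ne_zero
      set Dm : Matrix (Fin 2) (Fin 2) F := (D : Matrix (Fin 2) (Fin 2) F) with hDm
      obtain ⟨a, b, hab⟩ : ∃ a b : F, Dm * !![0, 1; 1, 1] = (a • 1 + b • !![0, 1; 1, 1]) * Dm := by
        rw [Matrix.det_fin_two] at hdet
        have hm : Dm = !![Dm 0 0, Dm 0 1; Dm 1 0, Dm 1 1] := Matrix.eta_fin_two Dm
        rw [hm]
        rcases hall (Dm 0 0) with e0 | e0 <;> rcases hall (Dm 0 1) with e1 | e1 <;>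
          rcases hall (Dm 1 0) with e2 | e2 <;> rcases hall (Dm 1 1) with e3 | e3 <;>
          simp only [e0, e1, e2, e3, mul_zero, mul_one, sub_self, ne_eq, not_true_eq_false] at hdet ⊢ <;>
          first
            | (refine ⟨0, 1, ?_⟩; ext i l; fin_cases i <;> fin_cases l <;> simp [Matrix.mul_apply, Fin.sum_univ_two, h11] <;> done)
            | (refine ⟨1, 1, ?_⟩; ext i l; fin_cases i <;> fin_cases l <;> simp [Matrix.mul_apply, Fin.sum_univ_two, h11] <;> done)
      exact ⟨C, D, a, b, hCD, hab⟩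
  let S := T.swap
  obtain ⟨e, P, hP, hmem⟩ := SympTwoPrime.exists_tensor_frame S.L
  have hbil : ∀ {n : ℕ} (G : Matrix (Fin n) (Fin n) F), IsBilinearForm (fun v w : Fin n → F => v ⬝ᵥ G *ᵥ w) :=
    fun G => ⟨fun x y v => by simp only [add_dotProduct], fun c x v => by simp only [smul_dotProduct, smul_eq_mul],
      fun v x y => by simp only [Matrix.mulVec_add, dotProduct_add],
      fun c v x => by simp only [Matrix.mulVec_smul, dotProduct_smul, smul_eq_mul]⟩
  have hsymp : ∀ {a b : ℕ} (R : TensorData Q a b H), (∀ v, v ⬝ᵥ R.Gb *ᵥ v = 0) →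
      IsSymplecticForm (fun v w : Fin b → F => v ⬝ᵥ R.Gb *ᵥ w) := fun R hR => by
    have hskew : ∀ v w, v ⬝ᵥ R.Gb *ᵥ w = -(w ⬝ᵥ R.Gb *ᵥ v) := fun v w => by
      have h := hR (v + w)
      rw [Matrix.mulVec_add, dotProduct_add, add_dotProduct, add_dotProduct, hR v, hR w] at h
      linear_combination h
    refine ⟨hbil _, hskew, hR, fun v hv => ?_⟩
    obtain ⟨x, hx⟩ : ∃ x, v ⬝ᵥ R.Gb *ᵥ x ≠ 0 := by
      by_contra hc
      push Not at hc
      exact hv (R.nd_b hc)
    exact ⟨⟨x, fun h => hx (by rw [hskew, h, neg_zero])⟩, x, hx⟩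
  have hgr : ∀ {n : ℕ} (G : Matrix (Fin n) (Fin n) F), gramMatrix (fun v w : Fin n → F => v ⬝ᵥ G *ᵥ w) = G :=
    fun G => by ext i j; simp [gramMatrix, Matrix.mulVec_single_one]
  refine Or.inr (Or.inr (Or.inr (Or.inr (Or.inr (Or.inr (Or.inr (Or.inr (Or.inr (Or.inr (Or.inr (Or.inr (Or.inr (Or.inr (Or.inr (Or.inr (Or.inl
    ⟨h3, e, P, fun v w => v ⬝ᵥ S.Ga *ᵥ w, fun v w => v ⬝ᵥ S.Gb *ᵥ w,
      hsymp T hB, hsymp S hA, ?_, fun x₁ x₂ => ?_,
      PrimeDim.OrthProper.eq_inf_of_le hH (fun h hh => ?_) (not_le_tensorProductSubgroup hQ e P)⟩))))))))))))))))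
  · refine ⟨1, one_ne_zero, fun x y => ?_⟩
    rw [← polarBilin_apply_apply, hP, hP, S.form, one_mul, hgr, hgr, formOfGram_eq_dot]
  · rw [hP]
    show Q (T.L _) = 0
    convert hpure x₁ x₂ using 3
    funext p
    show x₁ p.2 * x₂ p.1 = x₂ p.1 * x₁ p.2
    ring
  · obtain ⟨C, D, hCD⟩ := S.act h hh
    exact hmem h C D hCD

/-- Dimensions two and six. -/
theorem two_six (hQ : Plus Q) (hH : IsMaximalIn (omegaGL ⇑Q) H) (hirr : ActsIrreducibly (matrixSet H))
    (T : TensorData Q 6 2 H) : Cases Q H := by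
  classical
  have hiso : H ≤ Cfsg.isometryGroup F ⇑Q := fun x hx => MaxSub.Orth.omegaGL_le_isometry (hH.1.le hx)
  by_cases h2 : (2 : F) = 0
  · have halt : ∀ {a b : ℕ} (R : TensorData Q a b H), a < 12 → ∀ v, v ⬝ᵥ R.Gb *ᵥ v = 0 := fun R ha v => by
      simp only [dotProduct, Matrix.mulVec, Finset.mul_sum]
      rw [PrimeDim.FormDescent.sum_sym_diag h2 fun k l => by
        rw [show R.Gb l k = R.Gb k l by rw [← Matrix.transpose_apply R.Gb, R.symB, R.sym_one h2, one_smul]]
        ring]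
      exact Finset.sum_eq_zero fun k _ => by rw [R.alt_b hirr hiso ha h2]; ring
    exact two_six_alt hQ hH T (halt T.swap (by norm_num)) (halt T (by norm_num))
      fun t u => T.quad_pure hirr hiso (by norm_num) (by norm_num) h2 t u
  rcases mul_self_eq_one_iff.1 T.hε with hε | hε
  · exact two_six_symm hQ hH T hε h2
  · have hB : ∀ v, v ⬝ᵥ T.Gb *ᵥ v = 0 := fun v => TensorData.skew_value T hε h2 v
    exact two_six_alt hQ hH T (fun v => TensorData.skew_value T.swap hε h2 v) hB fun t u => by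
      rw [T.quad_slice h2, hB, mul_zero, zero_div]

end Cfsg.Agent.Lib.PlusTwelve
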